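import Cfsg.Agent.H509.WeakBlock_m3
import Cfsg.Agent.H648.Loc.Value_m3
import Cfsg.Agent.H757.WkHSThree
import Cfsg.Agent.H287.Blk.HS
import Cfsg.Agent.CpAutHSFive.Row
import Cfsg.Agent.FastGrp
import Cfsg.Agent.Prune
set_option linter.all false
prune_inst 0x7f00000000000000000000000000000000000000000000000000000000000000000000000000000000000000000000000000000000000000000000000000000000000000000000000000000000000000003fffffffffffffffffffffffffffbeffbdffffffff
open scoped Cfsg.Agent.FastGrp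

-- part: H757/WkGood
section
/-!
# S4095 at the prime 2: `FactB` from `Good r x` (helper757)

`Good r x` (H287/Blk/Base.lean): every class function supported on the elements of order `r` with values in the local
ring and a unit at `x` is not nilpotent modulo 2. So the set `Y` of all elements `y` of order `r` with
`O_2(C(y)) = 1` (automatically invariant under the automorphisms) satisfies `FactB` if `O_2(C(x)) = 1`.
-/

set_option autoImplicit false

namespace Cfsg.Agent.H757.WkGood

open Subgroup Cfsg Cfsg.Agent.H516 Cfsg.Agent.H509.Weak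
open Cfsg.Agent.H652.Four
open Cfsg.Agent.H287.Blk
open Cfsg.Agent.Blocks.LocalRing
open Cfsg.Agent.Blocks

universe u

theorem fn_ind {G : Type*} [Group G] {M : Ideal AlgInt} (hM : IsPModular 2 M) {r : ℕ} {Y : Set G}
    (hY : ∀ g : G, ∀ y : G, g * y * g⁻¹ ∈ Y ↔ y ∈ Y) (hr : ∀ y ∈ Y, orderOf y = r) {x : G} (hx : x ∈ Y) :
    Fn M r (ind Y) x := by
  refine ⟨fun g y => ?_, fun g => ?_, fun g hg => ?_, ?_⟩
  · by_cases h : y ∈ Y
    · rw [ind_pos h, ind_pos ((hY g y).2 h)]
    · rw [ind_neg h, ind_neg (fun h' => h ((hY g y).1 h'))]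
  · by_cases h : g ∈ Y
    · rw [ind_pos h]
      have := memLocalRing_natCast hM 1
      simpa using this
    · rw [ind_neg h]
      have := memLocalRing_natCast hM 0
      simpa using this
  · by_cases h : g ∈ Y
    · exact hr g h
    · exact absurd (ind_neg h) hg
  · rw [ind_pos hx]
    intro h1
    have h2 : MemLocalIdeal M ((1 : ℕ) : ℂ) := by simpa using h1
    rw [memLocalIdeal_natCast_iff hM] at h2
    omega

/-- **`FactB` from `Good`** -/
theorem factB_of_good {L : Type u} [Group L] {r : ℕ} (hr : r ≠ 1) {x : L} (h : Good r x) (hx : orderOf x = r)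
    (hO : pCore 2 ↥(centralizer ({x} : Set L)) = ⊥) : FactB L := by
  refine ⟨{y | orderOf y = r ∧ pCore 2 ↥(centralizer ({y} : Set L)) = ⊥}, ?_, ?_, ?_⟩
  · rintro β y ⟨h1, h2⟩
    exact ⟨by rw [MulEquiv.orderOf_eq, h1], pCore_equiv (centEquiv β y) h2⟩
  · rintro y ⟨h1, h2⟩
    refine ⟨?_, h2⟩
    rintro rfl
    rw [orderOf_one] at h1
    exact hr h1.symm
  · intro M hM
    refine h M hM _ (fn_ind hM (fun g y => ?_) (fun y hy => hy.1) ⟨hx, hO⟩)
    have key : ∀ g y : L, (orderOf y = r ∧ pCore 2 ↥(centralizer ({y} : Set L)) = ⊥) →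
        orderOf (g * y * g⁻¹) = r ∧ pCore 2 ↥(centralizer ({g * y * g⁻¹} : Set L)) = ⊥ := by
      rintro g y ⟨h1, h2⟩
      refine ⟨?_, pCore_equiv (centEquiv (MulAut.conj g) y) h2⟩
      rw [← MulAut.conj_apply, MulEquiv.orderOf_eq, h1]
    constructor
    · intro h1
      have h2 := key g⁻¹ _ h1
      rwa [show g⁻¹ * (g * y * g⁻¹) * g⁻¹⁻¹ = y by group] at h2
    · exact key g y

end Cfsg.Agent.H757.WkGood
end

-- part: H757/WkHS
section
/-!
# S4095 at the prime 2: the row `HS` (helper757)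
-/

set_option autoImplicit false

namespace Cfsg.Agent.H757.WkHS

open Subgroup Cfsg Cfsg.Agent.H516 Cfsg.Agent.H509.Weak Cfsg.Agent.H757.WkGood Cfsg.Agent.H757.WkGrp
open Cfsg.Agent.H904.HSCent

universe u

section general

variable {G : Type*} [Group G]

/-- `O_2(C(w))` as a subgroup of `G` -/
def core2 (w : G) : Subgroup G := (pCore 2 ↥(centralizer ({w} : Set G))).map (centralizer ({w} : Set G)).subtype

theorem core2_le (w : G) : core2 w ≤ centralizer ({w} : Set G) := map_subtype_le _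

theorem core2_conj {w c v : G} (hc : c * w = w * c) (hv : v ∈ core2 w) : c * v * c⁻¹ ∈ core2 w := by
  obtain ⟨v', hv', rfl⟩ := hv
  exact ⟨(⟨c, mem_centralizer_singleton_iff.2 hc⟩ * v' * ⟨c, mem_centralizer_singleton_iff.2 hc⟩⁻¹ :),
    (Lib.Cores.pCore_normal (G := ↥(centralizer ({w} : Set G))) 2).conj_mem v' hv' _, rfl⟩

theorem core2_isPGroup (w : G) : IsPGroup 2 (core2 w) :=
  (Lib.Cores.pCore_isPGroup (G := ↥(centralizer ({w} : Set G))) 2).map _

theorem core2_eq_bot {w : G} (h : core2 w = ⊥) : pCore 2 ↥(centralizer ({w} : Set G)) = ⊥ := by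
  rw [core2, map_eq_bot_iff_of_injective _ (subtype_injective _)] at h
  exact h

theorem exists_inv [Finite G] {w : G} (h : core2 w ≠ ⊥) : ∃ t ∈ core2 w, orderOf t = 2 := by
  have hf : Fact (Nat.Prime 2) := ⟨Nat.prime_two⟩
  obtain ⟨k, hk⟩ := IsPGroup.iff_card.1 (core2_isPGroup w)
  have hk0 : k ≠ 0 := by
    rintro rfl
    rw [pow_zero, card_eq_one] at hk
    exact h hk
  obtain ⟨t, ht⟩ := exists_prime_orderOf_dvd_card' (G := core2 w) 2 (by rw [hk]; exact dvd_pow_self 2 hk0)
  exact ⟨t, t.2, by rw [orderOf_coe, ht]⟩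

end general

variable {L : Type u} [Group L]

/-- `O_2(C(w)) = 1` for `w` of order 5 -/
theorem core_five (h : Spor.IsoHS L) {w : L} (hw : orderOf w = 5) : pCore 2 ↥(centralizer ({w} : Set L)) = ⊥ := by
  have hf5 : Fact (Nat.Prime 5) := ⟨Nat.prime_five⟩
  obtain ⟨D⟩ := KFacts.HS.exists_mod h
  have hfin := D.finite
  apply core2_eq_bot
  by_contra hne
  obtain ⟨t, ht, ht2⟩ := exists_inv hne
  have h8 := CpAutHSFive.not_eight h hw
  obtain ⟨k, hk⟩ := IsPGroup.iff_card.1 (core2_isPGroup w)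
  have hk2 : k ≤ 2 := by
    by_contra hcon
    apply h8
    have h1 : 2 ^ 3 ∣ Nat.card (core2 w) := by rw [hk]; exact pow_dvd_pow 2 (by omega)
    exact (by norm_num : 8 ∣ 2 ^ 3).trans (h1.trans (card_dvd_of_le (core2_le w)))
  have hcard : Nat.card (core2 w) < 5 := by
    rw [hk]
    calc 2 ^ k ≤ 2 ^ 2 := Nat.pow_le_pow_right (by norm_num) hk2
      _ < 5 := by norm_num
  have h25 : 5 ^ 2 ∣ Nat.card (centralizer ({w} : Set L)) := sq_dvd_cent Nat.prime_five (by rw [D.card]; norm_num) hw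
  obtain ⟨E', hE'⟩ := Sylow.exists_subgroup_card_pow_prime 5 h25
  set E : Subgroup L := E'.map (centralizer ({w} : Set L)).subtype with hE
  have hEc : Nat.card E = 25 := by
    rw [hE, ← Nat.card_congr (E'.equivMapOfInjective _ (subtype_injective _)).toEquiv, hE']
    norm_num
  have hEle : E ≤ centralizer ({w} : Set L) := map_subtype_le _
  have ht1 : t ≠ 1 := by
    rintro rfl
    rw [orderOf_one] at ht2
    norm_num at ht2
  have htt : t * t = 1 := by rw [← pow_two, ← ht2, pow_orderOf_eq_one]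
  have htw : t * w = w * t := mem_centralizer_singleton_iff.1 (core2_le w ht)
  have hDD : E ≤ CpAut.SmallP.DD w t := by
    intro e he
    have hew := mem_centralizer_singleton_iff.1 (hEle he)
    obtain ⟨j, hj⟩ := (Nat.dvd_prime_pow Nat.prime_five).1
      ((_root_.orderOf_dvd_natCard (⟨e, he⟩ : E)).trans (show Nat.card E ∣ 5 ^ 2 by rw [hEc]; norm_num))
    have hje : orderOf e = 5 ^ j := by rw [← Subgroup.orderOf_mk e he, hj.2]
    have h3 := commute_of_small (W := core2 w) Nat.prime_five hje (fun g hg v hv => core2_conj (by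
      obtain ⟨i, rfl⟩ := hg
      exact ((show Commute e w from hew).zpow_left i).eq) hv) hcard ht
    rw [CpAut.SmallP.mem_DD]
    exact ⟨h3, hew⟩
  have h4 := (card_dvd_of_le hDD).trans (CpAutHSFive.card_DD h htt ht1 hw htw)
  rw [hEc] at h4
  norm_num at h4

/-- `O_2(C(w)) = 1` for `w` of order 3 -/
theorem core_three (h : Spor.IsoHS L) {w : L} (hw : orderOf w = 3) : pCore 2 ↥(centralizer ({w} : Set L)) = ⊥ := by
  have hf3 : Fact (Nat.Prime 3) := ⟨Nat.prime_three⟩
  have hf5 : Fact (Nat.Prime 5) := ⟨Nat.prime_five⟩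
  obtain ⟨D, ψ, R⟩ := exists_rep h
  have hfin := D.finite
  obtain ⟨x, y, hx, hy, hxy, hyx, h1, h2, h3, ⟨f, hf, hfx⟩, hle⟩ := WkHSThree.three R
  have h27 : ¬ 27 ∣ Nat.card L := by rw [D.card]; norm_num
  have hcard : ∀ g : L, orderOf g = 3 → Nat.card (centralizer ({g} : Set L)) = Nat.card (centralizer ({x} : Set L)) :=
    fun g hg => card_cent_of_sylow h27 hx hy hxy hyx h1 h2 h3 hg
  -- `5` divides `|C(w)|`
  have h5 : 5 ∣ Nat.card (centralizer ({w} : Set L)) := by
    rw [hcard w hw]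
    have h6 := _root_.orderOf_dvd_natCard (⟨f, mem_centralizer_singleton_iff.2 hfx⟩ : centralizer ({x} : Set L))
    rwa [Subgroup.orderOf_mk, hf] at h6
  have h9 : 3 ^ 2 ∣ Nat.card (centralizer ({w} : Set L)) := sq_dvd_cent Nat.prime_three (by rw [D.card]; norm_num) hw
  obtain ⟨⟨e, he⟩, heo⟩ := exists_prime_orderOf_dvd_card' (G := centralizer ({w} : Set L)) 5 h5
  rw [Subgroup.orderOf_mk] at heo
  have hew := mem_centralizer_singleton_iff.1 he
  apply core2_eq_bot
  by_contra hne
  obtain ⟨k, hk⟩ := IsPGroup.iff_card.1 (core2_isPGroup w)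
  have hmod : Nat.card (core2 w) ≡ 1 [MOD 5] := by
    refine modEq_of_free Nat.prime_five heo (fun v hv => core2_conj hew hv) fun v hv hev => ?_
    by_contra hv1
    -- an involution in `⟨v⟩`
    obtain ⟨j, hj⟩ := (core2_isPGroup w) ⟨v, hv⟩
    have hvj : v ^ 2 ^ j = 1 := congrArg Subtype.val hj
    obtain ⟨i, hi, hio⟩ := (Nat.dvd_prime_pow Nat.prime_two).1 (orderOf_dvd_of_pow_eq_one hvj)
    have hi0 : i ≠ 0 := by
      rintro rfl
      rw [pow_zero, orderOf_eq_one_iff] at hio
      exact hv1 hio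
    obtain ⟨i, rfl⟩ := Nat.exists_eq_succ_of_ne_zero hi0
    set t := v ^ 2 ^ i with ht
    have hto : orderOf t = 2 := by
      rw [ht, orderOf_pow_of_dvd (by positivity) (by rw [hio]; exact pow_dvd_pow 2 (Nat.le_succ i)), hio,
        Nat.pow_succ, Nat.mul_div_cancel_left _ (by positivity)]
    have ht1 : t ≠ 1 := by
      intro h0
      rw [h0, orderOf_one] at hto
      norm_num at hto
    have htt : t * t = 1 := by rw [← pow_two, ← hto, pow_orderOf_eq_one]
    have hte : t * e = e * t := ((show Commute e v from hev).pow_right (2 ^ i)).eq.symm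
    have htw : t * w = w * t := by
      have h7 : Commute v w := mem_centralizer_singleton_iff.1 (core2_le w hv)
      exact (h7.pow_left (2 ^ i)).eq
    have h8 := CpAutHSFive.card_DD h htt ht1 heo hte
    have h10 : w ∈ CpAut.SmallP.DD e t := by
      rw [CpAut.SmallP.mem_DD]
      exact ⟨htw.symm, hew.symm⟩
    have h11 := (_root_.orderOf_dvd_natCard (⟨w, h10⟩ : CpAut.SmallP.DD e t)).trans h8
    rw [Subgroup.orderOf_mk, hw] at h11
    norm_num at h11
  have hk0 : k ≠ 0 := by
    rintro rfl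
    rw [pow_zero, card_eq_one] at hk
    exact hne hk
  have hk4 : 4 ≤ k := by
    by_contra hcon
    rw [hk] at hmod
    have h7 : k = 1 ∨ k = 2 ∨ k = 3 := by omega
    rcases h7 with rfl | rfl | rfl <;> exact absurd hmod (by decide)
  have h16 : 16 ∣ Nat.card (centralizer ({w} : Set L)) := by
    have h7 : 2 ^ 4 ∣ Nat.card (core2 w) := by rw [hk]; exact pow_dvd_pow 2 hk4
    exact (by norm_num : 16 ∣ 2 ^ 4).trans (h7.trans (card_dvd_of_le (core2_le w)))
  have hpos : 0 < Nat.card (centralizer ({w} : Set L)) := Nat.card_pos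
  have hle' : Nat.card (centralizer ({w} : Set L)) ≤ 360 := by rw [hcard w hw]; exact hle
  omega

/-- First fact about `HS` -/
theorem factA (h : Spor.IsoHS L) : FactA L := by
  have hf5 : Fact (Nat.Prime 5) := ⟨Nat.prime_five⟩
  obtain ⟨D, ψ, R⟩ := exists_rep h
  have hfin := D.finite
  obtain ⟨Q, hQ⟩ := Sylow.exists_subgroup_card_pow_prime (G := L) 5 (n := 3) (by rw [D.card]; norm_num)
  refine ⟨Q, by rw [hQ]; decide, fun w hw hw2 => ?_⟩
  have hd : orderOf w ∣ 44352000 := by rw [← D.card]; exact _root_.orderOf_dvd_natCard w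
  have hcases : orderOf w = 3 ∨ orderOf w = 5 ∨ orderOf w = 7 ∨ orderOf w = 11 := by
    have h1 : orderOf w ∣ 2 ^ 9 * 3 ^ 2 * 5 ^ 3 * 7 * 11 := by norm_num; exact hd
    rcases hw.dvd_mul.1 h1 with h1 | h1
    · rcases hw.dvd_mul.1 h1 with h1 | h1
      · rcases hw.dvd_mul.1 h1 with h1 | h1
        · rcases hw.dvd_mul.1 h1 with h1 | h1
          · exact absurd ((Nat.prime_dvd_prime_iff_eq hw Nat.prime_two).1 (hw.dvd_of_dvd_pow h1)) hw2
          · exact Or.inl ((Nat.prime_dvd_prime_iff_eq hw Nat.prime_three).1 (hw.dvd_of_dvd_pow h1))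
        · exact Or.inr (Or.inl ((Nat.prime_dvd_prime_iff_eq hw Nat.prime_five).1 (hw.dvd_of_dvd_pow h1)))
      · exact Or.inr (Or.inr (Or.inl ((Nat.prime_dvd_prime_iff_eq hw (by norm_num)).1 h1)))
    · exact Or.inr (Or.inr (Or.inr ((Nat.prime_dvd_prime_iff_eq hw (by norm_num)).1 h1)))
  rcases hcases with h3 | h5 | h7 | h11
  · exact Or.inl (core_three h h3)
  · exact Or.inl (core_five h h5)
  · right
    obtain ⟨x, hx, hle⟩ := R.exists_seven
    rw [card_cent_of_prime (by norm_num : Nat.Prime 7) (by rw [D.card]; norm_num) hx h7, hQ]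
    omega
  · right
    obtain ⟨x, hx, hle⟩ := R.exists_eleven
    rw [card_cent_of_prime (by norm_num : Nat.Prime 11) (by rw [D.card]; norm_num) hx h11, hQ]
    omega

/-- Second fact about `HS` -/
theorem factB (h : Spor.IsoHS L) : FactB L := by
  obtain ⟨D⟩ := KFacts.HS.exists_mod h
  exact factB_of_good (by norm_num) (H287.Blk.HS.good D) (H287.Blk.HS.orderOf_x D) (core_five h (H287.Blk.HS.orderOf_x D))

/-- **S4095 at the prime 2: the row `HS`** -/
theorem row {L : Type u} [Group L] [Finite L] (h : Spor.IsoHS L) (B : Base L) : Row 2 L :=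
  row_of_facts B (factA h) (factB h)

end Cfsg.Agent.H757.WkHS
end

private theorem dce_c91c65f3dd97 : _root_.True := by
  try have : _root_.True := by simp only [_root_.Cfsg.Agent.H757.WkHS.core2.eq_1]
  exact _root_.True.intro
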