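import Cfsg.Agent.S0215
import Mathlib.GroupTheory.FixedPointFree
import Mathlib.GroupTheory.SpecificGroups.Cyclic
import Cfsg.Agent.H773.RvDefs
import Cfsg.Agent.ThType.SpinData
import Mathlib.GroupTheory.Perm.Finite
import Mathlib.GroupTheory.Perm.Cycle.Type
import Cfsg.Agent.ThType.CSideMain_mg
import Cfsg.Agent.ThType.CSideWords
import Mathlib.Data.ZMod.Basic
import Cfsg.Agent.ThType.Final
import Cfsg.Agent.Sigma.ThRow
import Cfsg.Agent.Lib.PermCode
import Cfsg.Agent.Lib.PermDec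
import Cfsg.Agent.Lib.Refl
import Cfsg.Agent.FastGrp
import Cfsg.Agent.Prune
set_option linter.all false

section
prune_inst 0x7ffcbcfbaffcbfffffff7e7ffffddffdfdf8ffffffdffbfbffe1ebffefdf6befffe5fbafffecd0fddef6e2b6b0f87b53fbfffeffee6bdc7ffffd5ff45ffbff9fffffbdac5196b8341ffe6ffffbf17fee7f3fffffffffffffffffffffffffffffffffffffffff

-- part: H757/RvThree
section
prune_inst 0x42000000000000000000000000020004000000000400001c1000102000000000000000000802210100080000000000000000010001000000000000040000000002012040040a00000000000a001180c00000000000000000000000000000000000000000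
set_option linter.all false
open scoped Cfsg.Agent.FastGrp

-- part: H757/RvTools
section
/-!
# The centralizer of a `p`-central element with `SL₂(3)`-like involution centralizer (helper757, for S5207)

`Hyp p x z i j`: `x` has order `p`, `z` is the only involution of `C(x) ∩ C(z)`, `i` and `j` in `C(x)` have square `z`
and `i j = j i z`, normal subgroups of odd order of `C(x) ∩ C(z)` are contained in `⟨x⟩`.

`exists_out`: if `p ^ 3` is the exact `p`-part of `|G|` and `p ^ 2` does not divide `|C(z)|`, then a Sylow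
`p`-subgroup `P` of `G` is normal in `C(x)`, of exponent `p`, and `z` inverts `P / ⟨x⟩` (uses the Z*-theorem).
-/

set_option autoImplicit false

namespace Cfsg.Agent.H757.RvT

open Subgroup Cfsg

universe u

variable {G : Type u} [Group G]

/-- local hypotheses -/
structure Hyp (p : ℕ) (x z i j : G) : Prop where
  xo : orderOf x = p
  zz : z * z = 1
  z1 : z ≠ 1
  xz : x * z = z * x
  only : ∀ t : G, t * x = x * t → t * z = z * t → t * t = 1 → t = 1 ∨ t = z
  ix : i * x = x * i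
  jx : j * x = x * j
  ii : i * i = z
  jj : j * j = z
  ij : i * j = j * i * z
  odd : ∀ N : Subgroup G, Odd (Nat.card N) → (∀ n ∈ N, n * x = x * n ∧ n * z = z * n) →
    (∀ e : G, e * x = x * e → e * z = z * e → ∀ n ∈ N, e * n * e⁻¹ ∈ N) → N ≤ zpowers x

/-- an involution acting without fixed points on a normal subgroup inverts it -/
theorem inv_of_free [Finite G] {s : G} (hs : s * s = 1) {W : Subgroup G} [hW : W.Normal]
    (hf : ∀ w ∈ W, s * w = w * s → w = 1) :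
    (∀ w ∈ W, s * w * s⁻¹ = w⁻¹) ∧ ∀ a ∈ W, ∀ b ∈ W, a * b = b * a := by
  let φ : ↥W →* ↥W := (MulAut.conjNormal s : MulAut ↥W).toMonoidHom
  have hφ : ∀ w : ↥W, ((φ w : ↥W) : G) = s * w * s⁻¹ := fun w => MulAut.conjNormal_apply s w
  have h1 : MonoidHom.FixedPointFree φ := by
    intro w hw
    have h2 : s * (w : G) * s⁻¹ = w := by rw [← hφ, hw]
    exact Subtype.ext (hf w w.2 (mul_inv_eq_iff_eq_mul.1 h2))
  have h2 : Function.Involutive φ := by
    intro w
    apply Subtype.ext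
    rw [hφ, hφ]
    have h3 : s⁻¹ = s := inv_eq_of_mul_eq_one_right hs
    calc s * (s * (w : G) * s⁻¹) * s⁻¹ = (s * s) * w * (s * s)⁻¹ := by group
      _ = w := by rw [hs]; group
  refine ⟨fun w hw => ?_, fun a ha b hb => ?_⟩
  · have h3 := congrFun (h1.coe_eq_inv_of_involutive h2) ⟨w, hw⟩
    have h4 := congrArg (Subtype.val) h3
    rw [hφ] at h4
    exact h4
  · have h3 : Commute (⟨a, ha⟩ : ↥W) ⟨b, hb⟩ := h1.commute_all_of_involutive h2 _ _
    exact congrArg Subtype.val h3.eq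

/-- square roots in `⟨x⟩`: if `x ^ k` has trivial square then it is trivial -/
theorem eq_one_of_sq {p : ℕ} (hp2 : Odd p) {x y : G} (hx : orderOf x = p) (hy : y ∈ zpowers x)
    (h : y * y = 1) : y = 1 := by
  obtain ⟨k, rfl⟩ := hy
  have h1 : (x ^ k) ^ p = 1 := by
    rw [← zpow_natCast, ← zpow_mul, mul_comm, zpow_mul, zpow_natCast, ← hx, pow_orderOf_eq_one,
      one_zpow]
  obtain ⟨m, hm⟩ := hp2
  rw [hm, pow_add, pow_mul, pow_two, h, one_pow, one_mul, pow_one] at h1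
  exact h1

section central

variable [Finite G] {p : ℕ} {x z i j : G}

/-- `z` is isolated if `x` is central -/
theorem Hyp.iso (h : Hyp p x z i j) (hx : ∀ g : G, g * x = x * g) : Involutions.ZStar.Iso z := by
  refine ⟨h.zz, fun g => ?_⟩
  have hzi : z⁻¹ = z := inv_eq_of_mul_eq_one_left h.zz
  by_contra hodd
  rw [Nat.not_odd_iff_even] at hodd
  obtain ⟨v, hv⟩ : ∃ v, v = g * z * g⁻¹ := ⟨_, rfl⟩
  rw [← hv] at hodd
  have hvv : v * v = 1 := by
    rw [hv]
    calc g * z * g⁻¹ * (g * z * g⁻¹) = g * (z * z) * g⁻¹ := by group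
      _ = 1 := by rw [h.zz]; group
  have hvi : v⁻¹ = v := inv_eq_of_mul_eq_one_left hvv
  obtain ⟨w, hw⟩ : ∃ w, w = z * v := ⟨_, rfl⟩
  rw [← hw] at hodd
  obtain ⟨n, hn⟩ := hodd
  have hn2 : orderOf w = 2 * n := by rw [hn]; ring
  have hpos : 0 < orderOf w := orderOf_pos w
  set t := w ^ n with ht
  have htt : t * t = 1 := by
    rw [ht, ← pow_add, ← hn, pow_orderOf_eq_one]
  have ht1 : t ≠ 1 := by
    intro h1
    have h2 := orderOf_dvd_of_pow_eq_one h1
    have h3 := Nat.le_of_dvd (by omega) h2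
    omega
  have hti : t⁻¹ = t := inv_eq_of_mul_eq_one_left htt
  have hzw : z * w * z⁻¹ = w⁻¹ := by
    rw [hw, mul_inv_rev, hvi, hzi]
    calc z * (z * v) * z = (z * z) * v * z := by group
      _ = v * z := by rw [h.zz, one_mul]
  have hvw : v * w * v⁻¹ = w⁻¹ := by
    rw [hw, mul_inv_rev, hvi, hzi]
    calc v * (z * v) * v = v * z * (v * v) := by group
      _ = v * z := by rw [hvv, mul_one]
  have hzt : t * z = z * t := by
    have h1 : z * t * z⁻¹ = t := by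
      rw [ht]
      conv_rhs => rw [← ht, ← hti, ht, ← inv_pow]
      rw [← hzw, conj_pow]
    exact (mul_inv_eq_iff_eq_mul.1 h1).symm
  have hvt : t * v = v * t := by
    have h1 : v * t * v⁻¹ = t := by
      rw [ht]
      conv_rhs => rw [← ht, ← hti, ht, ← inv_pow]
      rw [← hvw, conj_pow]
    exact (mul_inv_eq_iff_eq_mul.1 h1).symm
  have e1 : t = z := (h.only t (hx t) hzt htt).resolve_left ht1
  have e2 : g⁻¹ * t * g = z := by
    refine (h.only _ (hx _) ?_ ?_).resolve_left ?_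
    · have : z = g⁻¹ * v * g := by rw [hv]; group
      rw [this]
      calc g⁻¹ * t * g * (g⁻¹ * v * g) = g⁻¹ * (t * v) * g := by group
        _ = g⁻¹ * (v * t) * g := by rw [hvt]
        _ = g⁻¹ * v * g * (g⁻¹ * t * g) := by group
    · calc g⁻¹ * t * g * (g⁻¹ * t * g) = g⁻¹ * (t * t) * g := by group
        _ = 1 := by rw [htt]; group
    · intro h1
      apply ht1
      calc t = g * (g⁻¹ * t * g) * g⁻¹ := by group
        _ = 1 := by rw [h1]; group
  have e3 : v = t := by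
    rw [hv, ← e2]; group
  have e4 : w = 1 := by rw [hw, e3, ← e1, htt]
  rw [e4, orderOf_one] at hn
  omega

omit [Finite G] in
theorem Hyp.x_mem (h : Hyp p x z i j) (hp : Odd p) (hx : ∀ g : G, g * x = x * g) :
    x ∈ pPrimeCore 2 G := by
  have h1 : (zpowers x).Normal := by
    refine ⟨fun n hn g => ?_⟩
    obtain ⟨k, rfl⟩ := hn
    have h2 : Commute g (x ^ k) := (show Commute g x from hx g).zpow_right k
    rw [h2.eq, mul_inv_cancel_right]
    exact ⟨k, rfl⟩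
  refine Lib.Cores.le_pPrimeCore h1 ?_ (mem_zpowers x)
  rw [Nat.card_zpowers, h.xo]
  exact Nat.coprime_two_right.2 hp

theorem odd_core : Odd (Nat.card (pPrimeCore 2 G)) :=
  Nat.coprime_two_right.mp (Lib.Cores.pPrimeCore_coprime 2)

/-- `G = O(G) C(z)` -/
theorem Hyp.frattini (h : Hyp p x z i j) (hx : ∀ g : G, g * x = x * g) (g : G) :
    ∃ o ∈ pPrimeCore 2 G, ∃ e : G, e * z = z * e ∧ g = o * e := by
  have hzi : z⁻¹ = z := inv_eq_of_mul_eq_one_left h.zz
  obtain ⟨w, hw⟩ : ∃ w, w = z * g * z⁻¹ * g⁻¹ := ⟨_, rfl⟩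
  have hwO : w ∈ pPrimeCore 2 G := by rw [hw]; exact S0215.iso_commutator z (h.iso hx) g
  have hodd : Odd (orderOf w) := by
    refine Odd.of_dvd_nat odd_core ?_ (n := Nat.card (pPrimeCore 2 G))
    exact Subgroup.orderOf_dvd_natCard _ hwO
  obtain ⟨m, hm⟩ := hodd
  have hzw : z * w * z⁻¹ = w⁻¹ := by
    rw [hw, hzi]
    simp only [mul_inv_rev, inv_inv, hzi]
    calc z * (z * g * z * g⁻¹) * z = (z * z) * g * z * g⁻¹ * z := by group
      _ = g * (z * (g⁻¹ * z)) := by rw [h.zz]; group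
  have hg : g * z * g⁻¹ = z * w := by
    rw [hw, hzi]
    calc g * z * g⁻¹ = 1 * g * z * g⁻¹ := by group
      _ = z * (z * g * z * g⁻¹) := by rw [← h.zz]; group
  have h1 : w ^ m * z * (w ^ m)⁻¹ = z * w := by
    have h2 : z * w ^ m * z⁻¹ = (w ^ m)⁻¹ := by
      rw [← conj_pow, hzw, inv_pow]
    have h3 : w ^ m * z = z * (w ^ m)⁻¹ := by
      rw [← h2]
      calc w ^ m * z = (1 : G) * w ^ m * z := by group
        _ = z * (z * w ^ m * z) := by rw [← h.zz]; group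
        _ = z * (z * w ^ m * z⁻¹) := by rw [hzi]
    rw [h3, mul_assoc, ← mul_inv_rev, ← pow_add]
    congr 1
    rw [inv_eq_iff_mul_eq_one, ← pow_succ, ← two_mul, ← hm, pow_orderOf_eq_one]
  refine ⟨w ^ m, pow_mem hwO m, (w ^ m)⁻¹ * g, ?_, by group⟩
  have h4 : g * z = z * w * g := by rw [← hg]; group
  have h5 : w ^ m * z = z * w * w ^ m := by rw [← h1]; group
  have h6 : (w ^ m)⁻¹ * (z * w) = z * (w ^ m)⁻¹ := by
    rw [inv_mul_eq_iff_eq_mul, ← mul_assoc, h5]; group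
  calc (w ^ m)⁻¹ * g * z = (w ^ m)⁻¹ * (g * z) := by group
    _ = (w ^ m)⁻¹ * (z * w) * g := by rw [h4]; group
    _ = z * ((w ^ m)⁻¹ * g) := by rw [h6]; group

/-- `C(z) ∩ O(G) ≤ ⟨x⟩` -/
theorem Hyp.core_inf (h : Hyp p x z i j) (hx : ∀ g : G, g * x = x * g) {o : G}
    (ho : o ∈ pPrimeCore 2 G) (hz : o * z = z * o) : o ∈ zpowers x := by
  have hn : (pPrimeCore 2 G).Normal := Lib.Cores.pPrimeCore_normal 2
  refine h.odd (pPrimeCore 2 G ⊓ centralizer {z}) ?_ ?_ ?_ ⟨ho, ?_⟩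
  · exact Odd.of_dvd_nat odd_core (Subgroup.card_dvd_of_le inf_le_left)
  · intro n hn
    exact ⟨hx n, mem_centralizer_singleton_iff.1 hn.2⟩
  · intro e _ he n hnn
    refine ⟨hn.conj_mem n hnn.1 e, ?_⟩
    have h1 : e ∈ centralizer ({z} : Set G) := mem_centralizer_singleton_iff.2 he
    show e * n * e⁻¹ ∈ centralizer ({z} : Set G)
    exact mul_mem (mul_mem h1 hnn.2) (inv_mem h1)
  · exact mem_centralizer_singleton_iff.2 hz

/-- `z` inverts `O(G) / ⟨x⟩`, which is abelian -/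
theorem Hyp.inverts (h : Hyp p x z i j) (hp : Odd p) (hx : ∀ g : G, g * x = x * g) :
    (∀ o ∈ pPrimeCore 2 G, z * o * z⁻¹ * o ∈ zpowers x) ∧
      ∀ a ∈ pPrimeCore 2 G, ∀ b ∈ pPrimeCore 2 G, a * b * a⁻¹ * b⁻¹ ∈ zpowers x := by
  have hn : (pPrimeCore 2 G).Normal := Lib.Cores.pPrimeCore_normal 2
  have hxn : (zpowers x).Normal := by
    refine ⟨fun n hn g => ?_⟩
    obtain ⟨k, rfl⟩ := hn
    have h2 : Commute g (x ^ k) := (show Commute g x from hx g).zpow_right k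
    rw [h2.eq, mul_inv_cancel_right]
    exact ⟨k, rfl⟩
  have hzi : z⁻¹ = z := inv_eq_of_mul_eq_one_left h.zz
  let f := QuotientGroup.mk' (zpowers x)
  have hf : Function.Surjective f := QuotientGroup.mk'_surjective _
  have hfk : ∀ g, f g = 1 ↔ g ∈ zpowers x := fun g => QuotientGroup.eq_one_iff g
  have hWn : ((pPrimeCore 2 G).map f).Normal := hn.map f hf
  have h1 := inv_of_free (s := f z) (W := (pPrimeCore 2 G).map f) (by rw [← map_mul, h.zz, map_one]) (by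
    rintro _ ⟨o, ho, rfl⟩ hc
    rw [hfk]
    have hc1 : z * o * z⁻¹ * o⁻¹ ∈ zpowers x := by
      rw [← hfk, map_mul, map_mul, map_mul, hc, map_inv, map_inv]; group
    obtain ⟨y, hy⟩ : ∃ y, y = z * o * z⁻¹ * o⁻¹ := ⟨_, rfl⟩
    rw [← hy] at hc1
    have hyz : y * z = z * y := by
      obtain ⟨k, rfl⟩ := hc1
      exact ((show Commute x z from h.xz).zpow_left k).eq
    have hyo : y * o = z * o * z⁻¹ := by rw [hy]; group
    have hyy : y * y = 1 := by
      have h2 : z * (z * o * z⁻¹) * z⁻¹ = o := by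
        calc z * (z * o * z⁻¹) * z⁻¹ = (z * z) * o * (z * z)⁻¹ := by group
          _ = o := by rw [h.zz]; group
      have h3 : z * (y * o) * z⁻¹ = y * (y * o) := by
        calc z * (y * o) * z⁻¹ = (z * y) * o * z⁻¹ := by group
          _ = y * (z * o * z⁻¹) := by rw [← hyz]; group
          _ = y * (y * o) := by rw [hyo]
      rw [hyo, h2, ← hyo, ← mul_assoc] at h3
      exact (mul_eq_right.1 h3.symm)
    have hy1 := eq_one_of_sq hp h.xo hc1 hyy
    refine h.core_inf hx ho ?_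
    rw [hy1, one_mul] at hyo
    conv_lhs => rw [hyo]
    group)
  constructor
  · intro o ho
    have h2 := h1.1 (f o) ⟨o, ho, rfl⟩
    rw [← hfk, map_mul, map_mul, map_mul, map_inv, h2]; group
  · intro a ha b hb
    have h2 := h1.2 (f a) ⟨a, ha, rfl⟩ (f b) ⟨b, hb, rfl⟩
    rw [← hfk, map_mul, map_mul, map_mul, map_inv, map_inv, h2]; group

/-- the Sylow `p`-subgroup of `G` (with `x` central) is normal and contained in `O(G)` -/
theorem Hyp.sylow (h : Hyp p x z i j) (hpp : p.Prime) (hp : Odd p) (hx : ∀ g : G, g * x = x * g)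
    (hz : ¬ p ^ 2 ∣ Nat.card (centralizer ({z} : Set G))) :
    ∃ P : Sylow p G, (P : Subgroup G).Normal ∧ (P : Subgroup G) ≤ pPrimeCore 2 G ∧ x ∈ P := by
  have : Fact p.Prime := ⟨hpp⟩
  obtain ⟨O, hO⟩ : ∃ O, O = pPrimeCore 2 G := ⟨_, rfl⟩
  have hOn : O.Normal := hO ▸ Lib.Cores.pPrimeCore_normal 2
  have hxO : x ∈ O := hO ▸ h.x_mem hp hx
  obtain ⟨P0⟩ : Nonempty (Sylow p ↥O) := inferInstance
  -- `x ∈ P0`
  have hxP0 : (⟨x, hxO⟩ : ↥O) ∈ (P0 : Subgroup ↥O) := by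
    have h1 : (zpowers (⟨x, hxO⟩ : ↥O)).Normal := by
      refine ⟨fun n hn g => ?_⟩
      obtain ⟨k, rfl⟩ := hn
      have h2 : Commute g ((⟨x, hxO⟩ : ↥O) ^ k) :=
        (show Commute g (⟨x, hxO⟩ : ↥O) from Subtype.ext (hx g)).zpow_right k
      rw [h2.eq, mul_inv_cancel_right]
      exact ⟨k, rfl⟩
    have h2 : IsPGroup p (zpowers (⟨x, hxO⟩ : ↥O)) := by
      refine IsPGroup.of_card (n := 1) ?_
      rw [Nat.card_zpowers, pow_one, ← h.xo, ← Subgroup.orderOf_coe]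
    exact Lib.Cores.pCore_le_sylow P0 (Lib.Cores.le_pCore h1 h2 (mem_zpowers _))
  have hP0n : (P0 : Subgroup ↥O).Normal := by
    refine ⟨fun n hn g => ?_⟩
    have h1 : g * n * g⁻¹ * n⁻¹ ∈ (P0 : Subgroup ↥O) := by
      have h2 := (h.inverts hp hx).2 g (hO ▸ g.2) n (hO ▸ n.2)
      obtain ⟨k, hk⟩ := h2
      have h3 : g * n * g⁻¹ * n⁻¹ = (⟨x, hxO⟩ : ↥O) ^ k := Subtype.ext hk.symm
      rw [h3]
      exact zpow_mem hxP0 k
    have h2 := mul_mem h1 hn
    rwa [inv_mul_cancel_right] at h2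
  have hP0c : (P0 : Subgroup ↥O).Characteristic := P0.characteristic_of_normal hP0n
  obtain ⟨P1, hP1⟩ : ∃ P1, P1 = (P0 : Subgroup ↥O).map O.subtype := ⟨_, rfl⟩
  have hP1n : P1.Normal := by rw [hP1]; exact ConjAct.normal_of_characteristic_of_normal
  have hP1O : P1 ≤ O := by rw [hP1]; exact map_subtype_le _
  have hP1p : IsPGroup p P1 := by rw [hP1]; exact P0.2.map _
  have hi1 : P1.index = (P0 : Subgroup ↥O).index * O.index := by
    rw [← relIndex_mul_index hP1O, hP1, relIndex, subgroupOf, comap_map_eq_self_of_injective O.subtype_injective]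
  have hi2 : ¬ p ∣ (P0 : Subgroup ↥O).index := P0.not_dvd_index
  have hi3 : ¬ p ∣ O.index := by
    intro hd
    apply hz
    let f := (QuotientGroup.mk' O).comp (centralizer ({z} : Set G)).subtype
    have hf : Function.Surjective f := by
      intro q
      obtain ⟨g, rfl⟩ := QuotientGroup.mk'_surjective O q
      obtain ⟨o, ho, e, he, rfl⟩ := h.frattini hx g
      refine ⟨⟨e, mem_centralizer_singleton_iff.2 he⟩, ?_⟩
      show QuotientGroup.mk' O e = QuotientGroup.mk' O (o * e)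
      rw [map_mul]
      have : QuotientGroup.mk' O o = 1 := (QuotientGroup.eq_one_iff o).2 (hO ▸ ho)
      rw [this, one_mul]
    have h1 : Nat.card (centralizer ({z} : Set G)) = Nat.card f.ker * O.index := by
      rw [Subgroup.card_eq_card_quotient_mul_card_subgroup f.ker, mul_comm]
      congr 1
      exact Nat.card_congr (QuotientGroup.quotientKerEquivOfSurjective f hf).toEquiv
    have h2 : p ∣ Nat.card f.ker := by
      have h3 : (⟨x, mem_centralizer_singleton_iff.2 h.xz⟩ : centralizer ({z} : Set G)) ∈ f.ker := by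
        rw [MonoidHom.mem_ker]
        exact (QuotientGroup.eq_one_iff x).2 hxO
      have h4 := Subgroup.orderOf_dvd_natCard _ h3
      rwa [← Subgroup.orderOf_coe, h.xo] at h4
    rw [h1, pow_two]
    exact mul_dvd_mul h2 hd
  have hi4 : ¬ p ∣ P1.index := by
    rw [hi1]
    exact hpp.not_dvd_mul hi2 hi3
  refine ⟨hP1p.toSylow hi4, ?_, ?_, ?_⟩
  · rw [IsPGroup.toSylow_coe]; exact hP1n
  · rw [IsPGroup.toSylow_coe, ← hO]; exact hP1O
  · rw [IsPGroup.mem_toSylow, hP1]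
    exact ⟨⟨x, hxO⟩, hxP0, rfl⟩

/-- `P / ⟨x⟩` cyclic implies `P ≤ ⟨x⟩` -/
theorem Hyp.noncyc (h : Hyp p x z i j) (hp : Odd p) (hx : ∀ g : G, g * x = x * g)
    [hxn : (zpowers x).Normal] {P : Subgroup G} [hP : P.Normal] (hPO : P ≤ pPrimeCore 2 G)
    (hc : IsCyclic (P.map (QuotientGroup.mk' (zpowers x)))) : P ≤ zpowers x := by
  obtain ⟨f, hf⟩ : ∃ f, f = QuotientGroup.mk' (zpowers x) := ⟨_, rfl⟩
  rw [← hf] at hc
  have hfk : ∀ g, f g = 1 ↔ g ∈ zpowers x := fun g => by rw [hf]; exact QuotientGroup.eq_one_iff g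
  obtain ⟨⟨w, hw⟩, hgen⟩ := hc.exists_generator
  have hgen' : ∀ y ∈ P.map f, ∃ k : ℤ, w ^ k = y := by
    intro y hy
    obtain ⟨k, hk⟩ := hgen ⟨y, hy⟩
    exact ⟨k, congrArg Subtype.val hk⟩
  have hconj : ∀ g : G, ∃ k : ℤ, f g * w * (f g)⁻¹ = w ^ k := by
    intro g
    obtain ⟨v, hv, rfl⟩ := hw
    have h1 : f g * f v * (f g)⁻¹ ∈ P.map f :=
      ⟨g * v * g⁻¹, hP.conj_mem v hv g, by rw [map_mul, map_mul, map_inv]⟩
    obtain ⟨k, hk⟩ := hgen' _ h1
    exact ⟨k, hk.symm⟩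
  obtain ⟨a, ha⟩ := hconj i
  obtain ⟨b, hb⟩ := hconj j
  have e1 : f i * f j * w * (f i * f j)⁻¹ = w ^ (a * b) := by
    calc f i * f j * w * (f i * f j)⁻¹ = f i * (f j * w * (f j)⁻¹) * (f i)⁻¹ := by group
      _ = w ^ (a * b) := by rw [hb, ← conj_zpow, ha, zpow_mul]
  have e2 : f j * f i * w * (f j * f i)⁻¹ = w ^ (a * b) := by
    calc f j * f i * w * (f j * f i)⁻¹ = f j * (f i * w * (f i)⁻¹) * (f j)⁻¹ := by group
      _ = w ^ (a * b) := by rw [ha, ← conj_zpow, hb, mul_comm, zpow_mul]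
  have e3 : f i * f j = f j * f i * f z := by rw [← map_mul, h.ij, map_mul, map_mul]
  have e4 : f z * w * (f z)⁻¹ = w := by
    have h1 : f j * f i * (f z * w * (f z)⁻¹) * (f j * f i)⁻¹ = f j * f i * w * (f j * f i)⁻¹ := by
      rw [e2, ← e1, e3]; group
    exact mul_left_cancel (mul_right_cancel h1)
  have e5 : w * w = 1 := by
    obtain ⟨v, hv, rfl⟩ := hw
    have h1 := (h.inverts hp hx).1 v (hPO hv)
    rw [← hfk, map_mul, map_mul, map_mul, map_inv, e4] at h1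
    exact h1
  have e6 : w = 1 := by
    obtain ⟨v, hv, rfl⟩ := hw
    have h1 : orderOf v ∣ Nat.card (pPrimeCore 2 G) := Subgroup.orderOf_dvd_natCard _ (hPO hv)
    have h2 : Odd (orderOf (f v)) :=
      Odd.of_dvd_nat odd_core ((orderOf_map_dvd f v).trans h1)
    have h3 : orderOf (f v) ∣ 2 := orderOf_dvd_of_pow_eq_one (by rw [pow_two, e5])
    rcases (Nat.dvd_prime Nat.prime_two).1 h3 with h4 | h4
    · exact orderOf_eq_one_iff.1 h4
    · rw [h4] at h2; exact absurd h2 (by decide)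
  intro v hv
  obtain ⟨k, hk⟩ := hgen' (f v) ⟨v, hv, rfl⟩
  rw [e6, one_zpow] at hk
  exact (hfk v).1 hk.symm

/-- order and exponent of `P` -/
theorem Hyp.card_ge (h : Hyp p x z i j) (hpp : p.Prime) (hp : Odd p) (hx : ∀ g : G, g * x = x * g)
    {P : Subgroup G} [hP : P.Normal] (hPO : P ≤ pPrimeCore 2 G) (hPp : IsPGroup p P) (hxP : x ∈ P)
    (hne : ¬ P ≤ zpowers x) :
    p ^ 3 ∣ Nat.card P ∧ (Nat.card P = p ^ 3 → ∀ g ∈ P, g ^ p = 1) := by
  have : Fact p.Prime := ⟨hpp⟩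
  have hxn : (zpowers x).Normal := by
    refine ⟨fun n hn g => ?_⟩
    obtain ⟨k, rfl⟩ := hn
    have h2 : Commute g (x ^ k) := (show Commute g x from hx g).zpow_right k
    rw [h2.eq, mul_inv_cancel_right]
    exact ⟨k, rfl⟩
  have hnc : ¬ IsCyclic (P.map (QuotientGroup.mk' (zpowers x))) := fun hc =>
    hne (h.noncyc hp hx hPO hc)
  have hxle : zpowers x ≤ P := (zpowers_le).2 hxP
  have hcard : Nat.card P = p * Nat.card (P.map (QuotientGroup.mk' (zpowers x))) := by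
    have h1 := relIndex_ker (K := P) (QuotientGroup.mk' (zpowers x))
    rw [QuotientGroup.ker_mk'] at h1
    rw [← h1, ← h.xo, ← Nat.card_zpowers, ← relIndex_bot_left, ← relIndex_bot_left,
      relIndex_mul_relIndex _ _ _ bot_le hxle]
  obtain ⟨m, hm⟩ := IsPGroup.iff_card.1 (hPp.map (QuotientGroup.mk' (zpowers x)))
  have hm2 : 2 ≤ m := by
    by_contra hlt
    apply hnc
    have h1 : m = 0 ∨ m = 1 := by omega
    rcases h1 with h1 | h1
    · rw [h1, pow_zero] at hm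
      have := (Nat.card_eq_one_iff_unique.1 hm).1
      infer_instance
    · rw [h1, pow_one] at hm
      exact isCyclic_of_prime_card hm
  refine ⟨?_, fun hP3 g hg => ?_⟩
  · rw [hcard, hm, ← pow_succ']
    exact pow_dvd_pow p (by omega)
  · have hm' : m = 2 := by
      rw [hcard, hm, ← pow_succ'] at hP3
      have := Nat.pow_right_injective hpp.two_le hP3
      omega
    rw [hm'] at hm
    obtain ⟨f, hf⟩ : ∃ f, f = QuotientGroup.mk' (zpowers x) := ⟨_, rfl⟩
    have hfk : ∀ g, f g = 1 ↔ g ∈ zpowers x := fun g => by rw [hf]; exact QuotientGroup.eq_one_iff g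
    rw [← hf] at hm hnc
    have h1 : f g ∈ P.map f := ⟨g, hg, rfl⟩
    have h2 : orderOf (f g) ∣ p ^ 2 := by rw [← hm]; exact Subgroup.orderOf_dvd_natCard _ h1
    obtain ⟨l, hl, hl2⟩ := (Nat.dvd_prime_pow hpp).1 h2
    have hl3 : l ≠ 2 := by
      rintro rfl
      apply hnc
      refine isCyclic_of_orderOf_eq_card (⟨f g, h1⟩ : P.map f) ?_
      rw [← Subgroup.orderOf_coe, hm]
      exact hl2
    have h3 : orderOf (f g) ∣ p := by
      rw [hl2]
      have : l = 0 ∨ l = 1 := by omega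
      rcases this with h | h
      · rw [h, pow_zero]; exact one_dvd _
      · rw [h, pow_one]
    have h4 : g ^ p ∈ zpowers x := by
      rw [← hfk, map_pow]
      exact orderOf_dvd_iff_pow_eq_one.1 h3
    obtain ⟨y, hy⟩ : ∃ y, y = z * g * z⁻¹ * g := ⟨_, rfl⟩
    have hy1 : y ∈ zpowers x := by rw [hy]; exact (h.inverts hp hx).1 g (hPO hg)
    have hyc : ∀ c : G, Commute y c := by
      intro c
      obtain ⟨k, rfl⟩ := hy1
      exact (show Commute x c from (hx c).symm).zpow_left k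
    have h5 : z * g * z⁻¹ = y * g⁻¹ := by rw [hy]; group
    have hyp : y ^ p = 1 := by
      obtain ⟨k, rfl⟩ := hy1
      rw [← zpow_natCast, ← zpow_mul, mul_comm, zpow_mul, zpow_natCast, ← h.xo, pow_orderOf_eq_one,
        one_zpow]
    have h6 : g ^ p = (g ^ p)⁻¹ := by
      have h7 : z * g ^ p * z⁻¹ = g ^ p := by
        obtain ⟨k, hk⟩ := h4
        rw [← hk]
        have : Commute z (x ^ k) := (show Commute z x from h.xz.symm).zpow_right k
        rw [this.eq, mul_inv_cancel_right]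
      calc g ^ p = z * g ^ p * z⁻¹ := h7.symm
        _ = (y * g⁻¹) ^ p := by rw [← conj_pow, h5]
        _ = (g ^ p)⁻¹ := by rw [(hyc g⁻¹).mul_pow, hyp, one_mul, inv_pow]
    refine eq_one_of_sq hp h.xo h4 ?_
    conv_lhs => rw [h6]
    rw [mul_eq_one_iff_eq_inv, inv_inj]
    exact h6

end central

/-- transfer to the centralizer `C` of `x` -/
theorem Hyp.sub {p : ℕ} {x z i j : G} (h : Hyp p x z i j) {C : Subgroup G}
    (hC : ∀ c : G, c ∈ C ↔ c * x = x * c) :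
    Hyp p (⟨x, (hC x).2 rfl⟩ : C) ⟨z, (hC z).2 h.xz.symm⟩ ⟨i, (hC i).2 h.ix⟩ ⟨j, (hC j).2 h.jx⟩ where
  xo := by rw [← Subgroup.orderOf_coe]; exact h.xo
  zz := Subtype.ext h.zz
  z1 := fun h1 => h.z1 (congrArg Subtype.val h1)
  xz := Subtype.ext h.xz
  only := fun t h1 h2 h3 => by
    rcases h.only t (congrArg Subtype.val h1) (congrArg Subtype.val h2) (congrArg Subtype.val h3) with
      h4 | h4
    · exact Or.inl (Subtype.ext h4)
    · exact Or.inr (Subtype.ext h4)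
  ix := Subtype.ext h.ix
  jx := Subtype.ext h.jx
  ii := Subtype.ext h.ii
  jj := Subtype.ext h.jj
  ij := Subtype.ext h.ij
  odd := fun N h1 h2 h3 => by
    have h4 := h.odd (N.map C.subtype)
      (by rw [card_map_of_injective (subtype_injective _)]; exact h1)
      (by
        rintro _ ⟨n, hn, rfl⟩
        exact ⟨congrArg Subtype.val (h2 n hn).1, congrArg Subtype.val (h2 n hn).2⟩)
      (by
        rintro e hex hez _ ⟨n, hn, rfl⟩
        exact ⟨_, h3 ⟨e, (hC e).2 hex⟩ (Subtype.ext hex) (Subtype.ext hez) n hn, rfl⟩)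
    intro n hn
    obtain ⟨k, hk⟩ := h4 ⟨n, hn, rfl⟩
    exact ⟨k, Subtype.ext hk⟩

/-- the result of the local analysis -/
structure Out (p : ℕ) (x z : G) (P : Sylow p G) (O : Subgroup G) : Prop where
  card : Nat.card P = p ^ 3
  exp : ∀ g ∈ P, g ^ p = 1
  xP : x ∈ P
  cent : ∀ g ∈ P, g * x = x * g
  norm : ∀ c : G, c * x = x * c → ∀ g ∈ P, c * g * c⁻¹ ∈ P
  inv : ∀ g ∈ P, z * g * z⁻¹ * g ∈ zpowers x
  comm : ∀ a ∈ P, ∀ b ∈ P, a * b * a⁻¹ * b⁻¹ ∈ zpowers x
  PO : (P : Subgroup G) ≤ O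
  oddO : Odd (Nat.card O)
  centO : ∀ o ∈ O, o * x = x * o
  normO : ∀ c : G, c * x = x * c → ∀ o ∈ O, c * o * c⁻¹ ∈ O
  frat : ∀ c : G, c * x = x * c → ∃ o ∈ O, ∃ e : G, e * x = x * e ∧ e * z = z * e ∧ c = o * e
  invO : ∀ o ∈ O, z * o * z⁻¹ * o ∈ zpowers x
  commO : ∀ a ∈ O, ∀ b ∈ O, a * b * a⁻¹ * b⁻¹ ∈ zpowers x
  inf : ∀ o ∈ O, o * z = z * o → o ∈ zpowers x

/-- a `p`-subgroup of the centralizer of `x` is contained in `P` -/
theorem Out.le {p : ℕ} {x z : G} {P : Sylow p G} {O : Subgroup G} (h : Out p x z P O)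
    {R : Subgroup G} (hR : IsPGroup p R) (hx : ∀ r ∈ R, r * x = x * r) : R ≤ P := by
  have h1 : R ≤ normalizer ((P : Subgroup G) : Set G) := by
    intro r hr
    rw [mem_normalizer_iff]
    intro g
    refine ⟨fun hg => h.norm r (hx r hr) g hg, fun hg => ?_⟩
    have hr' : r⁻¹ * x = x * r⁻¹ := hx r⁻¹ (inv_mem hr)
    have h2 := h.norm r⁻¹ hr' _ hg
    have h3 : r⁻¹ * (r * g * r⁻¹) * r⁻¹⁻¹ = g := by group
    rwa [h3] at h2
  have h2 : IsPGroup p ↥(R ⊔ (P : Subgroup G)) := hR.to_sup_of_normal_right' P.2 h1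
  have h3 : R ⊔ (P : Subgroup G) = P := P.3 h2 le_sup_right
  rw [← h3]
  exact le_sup_left

theorem exists_out [Finite G] {p : ℕ} {x z i j : G} (h : Hyp p x z i j) (hpp : p.Prime) (hp : Odd p)
    (h3 : p ^ 3 ∣ Nat.card G) (h4 : ¬ p ^ 4 ∣ Nat.card G)
    (hz : ¬ p ^ 2 ∣ Nat.card (centralizer ({z} : Set G))) :
    ∃ (P : Sylow p G) (O : Subgroup G), Out p x z P O := by
  have : Fact p.Prime := ⟨hpp⟩
  obtain ⟨C, hC⟩ : ∃ C, C = centralizer ({x} : Set G) := ⟨_, rfl⟩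
  have hmem : ∀ c : G, c ∈ C ↔ c * x = x * c := fun c => by
    rw [hC]; exact mem_centralizer_singleton_iff
  have hs := h.sub hmem
  obtain ⟨x', hx'⟩ : ∃ x' : C, x' = ⟨x, (hmem x).2 rfl⟩ := ⟨_, rfl⟩
  obtain ⟨z', hz'⟩ : ∃ z' : C, z' = ⟨z, (hmem z).2 h.xz.symm⟩ := ⟨_, rfl⟩
  have hxv : (x' : G) = x := by rw [hx']
  have hzv : (z' : G) = z := by rw [hz']
  rw [← hx', ← hz'] at hs
  have hxc : ∀ c : C, c * x' = x' * c := by
    intro c
    apply Subtype.ext
    rw [Subgroup.coe_mul, Subgroup.coe_mul, hxv]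
    exact (hmem c).1 c.2
  have hz2 : ¬ p ^ 2 ∣ Nat.card (centralizer ({z'} : Set ↥C)) := by
    intro hd
    apply hz
    have h1 : (centralizer ({z'} : Set ↥C)).map C.subtype ≤ centralizer ({z} : Set G) := by
      rintro _ ⟨c, hc, rfl⟩
      rw [mem_centralizer_singleton_iff]
      have := congrArg Subtype.val (mem_centralizer_singleton_iff.1 hc)
      rw [Subgroup.coe_mul, Subgroup.coe_mul, hzv] at this
      exact this
    have h2 := Subgroup.card_dvd_of_le h1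
    rw [card_map_of_injective (subtype_injective _)] at h2
    exact hd.trans h2
  obtain ⟨P0, hP0n, hP0O, hxP0⟩ := hs.sylow hpp hp hxc hz2
  obtain ⟨O, hO⟩ : ∃ O, O = (pPrimeCore 2 ↥C).map C.subtype := ⟨_, rfl⟩
  have hCO : (pPrimeCore 2 ↥C).Normal := Lib.Cores.pPrimeCore_normal 2
  -- `P0` is not contained in `⟨x⟩`
  have hle : ∀ R : Subgroup G, IsPGroup p R → (∀ r ∈ R, r * x = x * r) → ∀ r ∈ R,
      ∃ r' ∈ (P0 : Subgroup ↥C), (r' : G) = r := by
    intro R hR hRx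
    have hRC : R ≤ C := fun r hr => (hmem r).2 (hRx r hr)
    have h1 : IsPGroup p ↥(R.subgroupOf C ⊔ (P0 : Subgroup ↥C)) :=
      (hR.comap_subtype (K := C)).to_sup_of_normal_right P0.2
    have h2 : R.subgroupOf C ⊔ (P0 : Subgroup ↥C) = P0 := P0.3 h1 le_sup_right
    intro r hr
    refine ⟨⟨r, hRC hr⟩, ?_, rfl⟩
    rw [← h2]
    exact (le_sup_left : R.subgroupOf C ≤ _) (mem_subgroupOf.2 hr)
  have hne : ¬ (P0 : Subgroup ↥C) ≤ zpowers x' := by
    intro hcon
    obtain ⟨T, hT⟩ := (IsPGroup.of_card (p := p) (n := 1) (by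
      rw [Nat.card_zpowers, pow_one]; exact h.xo) : IsPGroup p (zpowers x)).exists_le_sylow
    have hxT : x ∈ T := hT (mem_zpowers x)
    have hTc : p ^ 3 ∣ Nat.card T := T.pow_dvd_card_of_pow_dvd_card h3
    -- `C_T(x) = ⟨x⟩`
    have hCT : ∀ c ∈ T, c * x = x * c → c ∈ zpowers x := by
      intro c hc hcx
      have h1 : zpowers c ≤ T := (zpowers_le).2 hc
      have h2 : IsPGroup p (zpowers c) := T.2.to_le h1
      obtain ⟨r', hr', hr'c⟩ := hle (zpowers c) h2 (by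
        rintro _ ⟨k, rfl⟩
        exact ((show Commute c x from hcx).zpow_left k).eq) c (mem_zpowers c)
      obtain ⟨k, hk⟩ := hcon hr'
      refine ⟨k, ?_⟩
      rw [← hr'c, ← hk, ← hxv]
      rfl
    have hTn : Nontrivial (T : Subgroup G) := by
      rw [← Finite.one_lt_card_iff_nontrivial]
      exact lt_of_lt_of_le (Nat.one_lt_pow (by norm_num) hpp.one_lt) (Nat.le_of_dvd Nat.card_pos hTc)
    have hZn : Nontrivial (center ↥(T : Subgroup G)) := T.2.center_nontrivial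
    obtain ⟨⟨y, hy⟩, hy1⟩ := exists_ne (1 : center ↥(T : Subgroup G))
    have hyT : (y : G) ∈ T := y.2
    have hyc : ∀ t ∈ T, (y : G) * t = t * y := fun t ht =>
      congrArg Subtype.val (mem_center_iff.1 hy ⟨t, ht⟩).symm
    have hyx : (y : G) ∈ zpowers x := hCT y hyT (hyc x hxT)
    have hy1' : (y : G) ≠ 1 := fun h1 => hy1 (Subtype.ext (Subtype.ext h1))
    have hxy : x ∈ zpowers (y : G) := by
      have h1 : zpowers (y : G) = zpowers x := by
        refine eq_of_le_of_card_ge ((zpowers_le).2 hyx) ?_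
        rw [Nat.card_zpowers, Nat.card_zpowers]
        refine Nat.le_of_dvd (orderOf_pos _) ?_
        have h2 : orderOf (y : G) ∣ p := by
          have h8 := Subgroup.orderOf_dvd_natCard _ hyx
          rwa [Nat.card_zpowers, h.xo] at h8
        rcases (Nat.dvd_prime hpp).1 h2 with h5 | h5
        · exact absurd (orderOf_eq_one_iff.1 h5) hy1'
        · rw [h5, h.xo]
      rw [h1]
      exact mem_zpowers x
    have hTx : (T : Subgroup G) ≤ zpowers x := by
      intro t ht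
      refine hCT t ht ?_
      obtain ⟨k, rfl⟩ := hxy
      exact ((show Commute (y : G) t from hyc t ht).zpow_left k).symm.eq
    have h5 := Nat.le_of_dvd Nat.card_pos (Subgroup.card_dvd_of_le hTx)
    rw [Nat.card_zpowers, h.xo] at h5
    have h6 := Nat.le_of_dvd Nat.card_pos hTc
    have h7 : p ^ 1 < p ^ 3 := Nat.pow_lt_pow_right hpp.one_lt (by norm_num)
    rw [pow_one] at h7
    exact absurd (h6.trans h5) (not_le.2 h7)
  obtain ⟨hcard, hexp⟩ := hs.card_ge hpp hp hxc hP0O P0.2 hxP0 hne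
  obtain ⟨PG, hPG⟩ : ∃ PG, PG = (P0 : Subgroup ↥C).map C.subtype := ⟨_, rfl⟩
  have hPGc : Nat.card PG = Nat.card P0 := by
    rw [hPG]; exact card_map_of_injective (subtype_injective _)
  have hPGp : IsPGroup p PG := by rw [hPG]; exact P0.2.map _
  obtain ⟨n, hn⟩ := IsPGroup.iff_card.1 hPGp
  have hn3 : n = 3 := by
    have h1 : 3 ≤ n := by
      rw [← hPGc, hn] at hcard
      exact (Nat.pow_dvd_pow_iff_le_right hpp.one_lt).1 hcard
    have h2 : ¬ 4 ≤ n := by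
      intro h2
      apply h4
      have h5 : p ^ 4 ∣ Nat.card PG := by rw [hn]; exact pow_dvd_pow p h2
      exact h5.trans (Subgroup.card_subgroup_dvd_card PG)
    omega
  rw [hn3] at hn
  have hidx : ¬ p ∣ PG.index := by
    rintro ⟨k, hk⟩
    apply h4
    rw [← card_mul_index PG, hn, hk]
    exact ⟨k, by ring⟩
  have hmemP : ∀ g, g ∈ hPGp.toSylow hidx ↔ ∃ g' ∈ (P0 : Subgroup ↥C), (g' : G) = g := by
    intro g
    rw [IsPGroup.mem_toSylow, hPG]
    rfl
  have hmemO : ∀ g, g ∈ O ↔ ∃ g' ∈ pPrimeCore 2 ↥C, (g' : G) = g := by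
    intro g
    rw [hO]
    rfl
  have hzx : ∀ g' : C, g' ∈ zpowers x' → (g' : G) ∈ zpowers x := by
    rintro _ ⟨k, rfl⟩
    exact ⟨k, by rw [← hxv]; rfl⟩
  have hexp' := hexp (by rw [← hPGc, hn])
  refine ⟨hPGp.toSylow hidx, O, ?_, ?_, ?_, ?_, ?_, ?_, ?_, ?_, ?_, ?_, ?_, ?_, ?_, ?_, ?_⟩
  · exact hn
  · intro g hg
    obtain ⟨g', hg', rfl⟩ := (hmemP g).1 hg
    exact congrArg Subtype.val (hexp' g' hg')
  · exact (hmemP x).2 ⟨x', hxP0, hxv⟩
  · intro g hg
    obtain ⟨g', hg', rfl⟩ := (hmemP g).1 hg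
    exact (hmem g').1 g'.2
  · intro c hc g hg
    obtain ⟨g', hg', rfl⟩ := (hmemP g).1 hg
    exact (hmemP _).2 ⟨_, hP0n.conj_mem g' hg' ⟨c, (hmem c).2 hc⟩, rfl⟩
  · intro g hg
    obtain ⟨g', hg', rfl⟩ := (hmemP g).1 hg
    have := hzx _ ((hs.inverts hp hxc).1 g' (hP0O hg'))
    rw [← hzv]
    exact this
  · intro a ha b hb
    obtain ⟨a', ha', rfl⟩ := (hmemP a).1 ha
    obtain ⟨b', hb', rfl⟩ := (hmemP b).1 hb
    exact hzx _ ((hs.inverts hp hxc).2 a' (hP0O ha') b' (hP0O hb'))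
  · intro g hg
    obtain ⟨g', hg', rfl⟩ := (hmemP g).1 hg
    exact (hmemO _).2 ⟨g', hP0O hg', rfl⟩
  · rw [hO, card_map_of_injective (subtype_injective _)]
    exact odd_core
  · intro g hg
    obtain ⟨g', hg', rfl⟩ := (hmemO g).1 hg
    exact (hmem g').1 g'.2
  · intro c hc g hg
    obtain ⟨g', hg', rfl⟩ := (hmemO g).1 hg
    exact (hmemO _).2 ⟨_, hCO.conj_mem g' hg' ⟨c, (hmem c).2 hc⟩, rfl⟩
  · intro c hc
    obtain ⟨o, ho, e, he, hoe⟩ := hs.frattini hxc ⟨c, (hmem c).2 hc⟩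
    refine ⟨o, (hmemO _).2 ⟨o, ho, rfl⟩, e, (hmem e).1 e.2, ?_, congrArg Subtype.val hoe⟩
    have := congrArg Subtype.val he
    rw [← hzv]
    exact this
  · intro g hg
    obtain ⟨g', hg', rfl⟩ := (hmemO g).1 hg
    have := hzx _ ((hs.inverts hp hxc).1 g' hg')
    rw [← hzv]
    exact this
  · intro a ha b hb
    obtain ⟨a', ha', rfl⟩ := (hmemO a).1 ha
    obtain ⟨b', hb', rfl⟩ := (hmemO b).1 hb
    exact hzx _ ((hs.inverts hp hxc).2 a' ha' b' hb')
  · intro o ho hoz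
    obtain ⟨o', ho', rfl⟩ := (hmemO o).1 ho
    refine hzx _ (hs.core_inf hxc ho' ?_)
    apply Subtype.ext
    rw [Subgroup.coe_mul, Subgroup.coe_mul, hzv]
    exact hoz

end Cfsg.Agent.H757.RvT
end

-- part: H757/RvThree
section
/-!
# Three pairwise noncommuting `p`-central elements (helper757, for S5207)
-/

set_option autoImplicit false

namespace Cfsg.Agent.H757.RvT

open Subgroup Cfsg

universe u

variable {G : Type u} [Group G] {p : ℕ} {x z : G} {P : Sylow p G} {O : Subgroup G}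

theorem comm_zpow {c y : G} (hc : c * x = x * c) (hy : y ∈ zpowers x) : c * y = y * c := by
  obtain ⟨k, rfl⟩ := hy
  exact ((show Commute c x from hc).zpow_right k).eq

/-- elements inverting `x` normalise `P` -/
theorem Out.norm_inv (h : Out p x z P O) {w : G} (hw : w * x * w⁻¹ = x⁻¹) :
    ∀ g ∈ P, w * g * w⁻¹ ∈ P := by
  intro g hg
  have h1 : (P : Subgroup G).map (MulAut.conj w).toMonoidHom ≤ P := by
    refine h.le (P.2.map _) ?_
    rintro _ ⟨v, hv, rfl⟩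
    show w * v * w⁻¹ * x = x * (w * v * w⁻¹)
    have h2 := h.cent v hv
    have h3 : w⁻¹ * x * w = x⁻¹ := by
      have h4 : (w * x * w⁻¹)⁻¹ = x := by rw [hw, inv_inv]
      calc w⁻¹ * x * w = w⁻¹ * (w * x * w⁻¹)⁻¹ * w := by rw [h4]
        _ = x⁻¹ := by group
    have h5 : v * x⁻¹ = x⁻¹ * v := by
      exact ((show Commute v x from h2).inv_right).eq
    calc w * v * w⁻¹ * x = w * (v * (w⁻¹ * x * w)) * w⁻¹ := by group
      _ = w * (x⁻¹ * v) * w⁻¹ := by rw [h3, h5]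
      _ = (w * x * w⁻¹)⁻¹ * (w * v * w⁻¹) := by group
      _ = x * (w * v * w⁻¹) := by rw [hw, inv_inv]
  exact h1 ⟨g, hg, rfl⟩

/-- an involution inverting `x` centralises a nontrivial element of a nonabelian `P` -/
theorem Out.exists_fixed [Finite G] (h : Out p x z P O) (hnab : ∃ a ∈ P, ∃ b ∈ P, a * b ≠ b * a) {w : G}
    (hww : w * w = 1) (hw : w * x * w⁻¹ = x⁻¹) : ∃ g ∈ P, g ≠ 1 ∧ w * g = g * w := by
  by_contra hcon
  push Not at hcon
  let φ : (P : Subgroup G) →* (P : Subgroup G) :=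
    { toFun := fun v => ⟨w * v * w⁻¹, h.norm_inv hw v v.2⟩
      map_one' := Subtype.ext (by simp)
      map_mul' := fun a b => Subtype.ext (by
        show w * (a * b : G) * w⁻¹ = w * a * w⁻¹ * (w * b * w⁻¹)
        group) }
  have hφ : ∀ v : (P : Subgroup G), ((φ v : (P : Subgroup G)) : G) = w * v * w⁻¹ := fun v => rfl
  have h1 : MonoidHom.FixedPointFree φ := by
    intro v hv
    by_contra hne
    have h2 : w * (v : G) * w⁻¹ = v := by rw [← hφ, hv]
    exact hcon v v.2 (fun h3 => hne (Subtype.ext h3)) (mul_inv_eq_iff_eq_mul.1 h2)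
  have h2 : Function.Involutive φ := by
    intro v
    apply Subtype.ext
    rw [hφ, hφ]
    have h3 : w⁻¹ = w := inv_eq_of_mul_eq_one_right hww
    calc w * (w * (v : G) * w⁻¹) * w⁻¹ = (w * w) * v * (w * w)⁻¹ := by group
      _ = v := by rw [hww]; group
  obtain ⟨a, ha, b, hb, hab⟩ := hnab
  have h3 : Commute (⟨a, ha⟩ : (P : Subgroup G)) ⟨b, hb⟩ := h1.commute_all_of_involutive h2 _ _
  exact hab (congrArg Subtype.val h3.eq)

/-- `g ^ 2 ∈ ⟨x⟩` implies `g ∈ ⟨x⟩` for elements of `P` -/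
theorem Out.mem_of_sq (h : Out p x z P O) (hp : Odd p) {g : G} (hg : g ∈ P) (h2 : g * g ∈ zpowers x) :
    g ∈ zpowers x := by
  obtain ⟨m, hm⟩ := hp
  have h3 := h.exp g hg
  rw [hm] at h3
  have h4 : g = (g * g) ^ (m + 1) := by
    rw [← pow_two, ← pow_mul]
    calc g = g ^ (2 * m + 1) * g := by rw [h3, one_mul]
      _ = g ^ (2 * (m + 1)) := by rw [← pow_succ]; congr 1
  rw [h4]
  exact pow_mem h2 _

/-- two commuting elements of `P` outside `⟨x⟩` are proportional mod `⟨x⟩` if `P` is nonabelian -/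
theorem Out.mem_closure [Finite G] (h : Out p x z P O) (hpp : p.Prime) (hxo : orderOf x = p)
    (hnab : ∃ a ∈ P, ∃ b ∈ P, a * b ≠ b * a)
    {a b : G} (ha : a ∈ P) (hb : b ∈ P) (hax : a ∉ zpowers x) (hab : a * b = b * a) :
    b ∈ closure ({x, a} : Set G) := by
  by_contra hcon
  have hK1 : closure ({x, a} : Set G) ≤ P := by
    rw [closure_le]
    rintro y (rfl | rfl)
    · exact h.xP
    · exact ha
  have hK2 : closure ({x, a, b} : Set G) ≤ P := by
    rw [closure_le]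
    rintro y (rfl | rfl | rfl)
    · exact h.xP
    · exact ha
    · exact hb
  have hle1 : zpowers x < closure ({x, a} : Set G) := by
    refine lt_of_le_of_ne ((zpowers_le).2 (subset_closure (Or.inl rfl))) ?_
    intro he
    exact hax (he ▸ subset_closure (Or.inr rfl))
  have hle2 : closure ({x, a} : Set G) < closure ({x, a, b} : Set G) := by
    refine lt_of_le_of_ne (closure_mono ?_) ?_
    · rintro y (rfl | rfl)
      · exact Or.inl rfl
      · exact Or.inr (Or.inl rfl)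
    · intro he
      exact hcon (he ▸ subset_closure (Or.inr (Or.inr rfl)))
  have hc1 : Nat.card (zpowers x) < Nat.card (closure ({x, a} : Set G)) := by
    exact Set.Finite.card_lt_card (Set.toFinite _) hle1
  have hc2 : Nat.card (closure ({x, a} : Set G)) < Nat.card (closure ({x, a, b} : Set G)) := by
    exact Set.Finite.card_lt_card (Set.toFinite _) hle2
  have hd1 := Subgroup.card_dvd_of_le hK1
  have hd2 := Subgroup.card_dvd_of_le hK2
  have hc : Nat.card ((P : Subgroup G)) = p ^ 3 := h.card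
  rw [hc] at hd1 hd2
  obtain ⟨m1, -, hm1⟩ := (Nat.dvd_prime_pow hpp).1 hd1
  obtain ⟨m2, hm2', hm2⟩ := (Nat.dvd_prime_pow hpp).1 hd2
  rw [Nat.card_zpowers, hxo, hm1] at hc1
  rw [hm1, hm2] at hc2
  have e1 : 1 < m1 := (Nat.pow_lt_pow_iff_right hpp.one_lt).1 (by rw [pow_one]; exact hc1)
  have e2 : m1 < m2 := (Nat.pow_lt_pow_iff_right hpp.one_lt).1 hc2
  have e3 : m2 = 3 := by omega
  have e4 : closure ({x, a, b} : Set G) = P := by
    apply eq_of_le_of_card_ge hK2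
    rw [hm2, e3, hc]
  -- the closure is abelian
  have e5 : ∀ s ∈ ({x, a, b} : Set G), ∀ t ∈ ({x, a, b} : Set G), s * t = t * s := by
    have hax' := h.cent a ha
    have hbx' := h.cent b hb
    rintro s (rfl | rfl | rfl) t (rfl | rfl | rfl)
    · rfl
    · exact hax'.symm
    · exact hbx'.symm
    · exact hax'
    · rfl
    · exact hab
    · exact hbx'
    · exact hab.symm
    · rfl
  have e6 : closure ({x, a, b} : Set G) ≤ centralizer ({x, a, b} : Set G) := by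
    rw [closure_le]
    intro s hs
    rw [SetLike.mem_coe, mem_centralizer_iff]
    intro t ht
    exact e5 t ht s hs
  have e7 : closure ({x, a, b} : Set G) ≤ centralizer ((closure ({x, a, b} : Set G) : Subgroup G) : Set G) := by
    rw [closure_le]
    intro s hs
    rw [SetLike.mem_coe, mem_centralizer_iff]
    intro t ht
    exact ((mem_centralizer_iff.1 (e6 ht)) s hs).symm
  obtain ⟨c, hc', d, hd', hcd⟩ := hnab
  have hc'' : c ∈ closure ({x, a, b} : Set G) := by rw [e4]; exact hc'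
  have hd'' : d ∈ closure ({x, a, b} : Set G) := by rw [e4]; exact hd'
  exact hcd ((mem_centralizer_iff.1 (e7 hd'')) c hc'')

/-- fixed elements of two of the involutions do not commute -/
theorem Out.not_comm [Finite G] (h : Out p x z P O) (hpp : p.Prime) (hp : Odd p) (hxo : orderOf x = p)
    (hnab : ∃ a ∈ P, ∃ b ∈ P, a * b ≠ b * a) {v w : G}
    (hv : v * x * v⁻¹ = x⁻¹) (hw : w * x * w⁻¹ = x⁻¹)
    (hvw : v * w * (v * w) = z) {a b : G} (ha : a ∈ P) (hb : b ∈ P) (hax : a ∉ zpowers x)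
    (hbx : b ∉ zpowers x) (hva : v * a = a * v) (hwb : w * b = b * w) : a * b ≠ b * a := by
  intro hab
  have h1 := h.mem_closure hpp hxo hnab ha hb hax hab
  -- elements fixed by `v` mod `⟨x⟩`
  let F : Subgroup G :=
    { carrier := {g | g * x = x * g ∧ v * g * v⁻¹ * g⁻¹ ∈ zpowers x}
      one_mem' := ⟨by simp, by simp⟩
      mul_mem' := by
        rintro g k ⟨hg1, hg2⟩ ⟨hk1, hk2⟩
        refine ⟨by rw [mul_assoc, hk1, ← mul_assoc, hg1, mul_assoc], ?_⟩
        have h3 : v * (g * k) * v⁻¹ * (g * k)⁻¹ = (v * g * v⁻¹ * g⁻¹) * (g * (v * k * v⁻¹ * k⁻¹) * g⁻¹) := by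
          group
        rw [h3, comm_zpow hg1 hk2, mul_inv_cancel_right]
        exact mul_mem hg2 hk2
      inv_mem' := by
        rintro g ⟨hg1, hg2⟩
        have hg3 : g⁻¹ * x = x * g⁻¹ := (show Commute g x from hg1).inv_left.eq
        refine ⟨hg3, ?_⟩
        have h3 : v * g⁻¹ * v⁻¹ * g⁻¹⁻¹ = g⁻¹ * ((v * g * v⁻¹ * g⁻¹)⁻¹) * g⁻¹⁻¹ := by group
        rw [h3, comm_zpow hg3 (inv_mem hg2), mul_inv_cancel_right]
        exact inv_mem hg2 }
  have h2 : closure ({x, a} : Set G) ≤ F := by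
    rw [closure_le]
    rintro y (rfl | rfl)
    · refine ⟨rfl, ?_⟩
      rw [hv, ← mul_inv_rev]
      exact inv_mem (mul_mem (mem_zpowers _) (mem_zpowers _))
    · refine ⟨h.cent _ ha, ?_⟩
      rw [hva, mul_inv_cancel_right, mul_inv_cancel]
      exact one_mem _
  obtain ⟨-, k, hk⟩ := h2 h1
  have hk' : v * b * v⁻¹ = x ^ k * b := by rw [show x ^ k = _ from hk]; group
  have e1 : (v * w) * b * (v * w)⁻¹ = x ^ k * b := by
    calc (v * w) * b * (v * w)⁻¹ = v * (w * b) * w⁻¹ * v⁻¹ := by group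
      _ = v * b * v⁻¹ := by rw [hwb]; group
      _ = x ^ k * b := hk'
  have e2 : (v * w) * x ^ k * (v * w)⁻¹ = x ^ k := by
    calc (v * w) * x ^ k * (v * w)⁻¹ = v * (w * x ^ k * w⁻¹) * v⁻¹ := by group
      _ = x ^ k := by rw [← conj_zpow, hw, inv_zpow, ← conj_inv, ← conj_zpow, hv, inv_zpow, inv_inv]
  have e3 : z * b * z⁻¹ = x ^ k * (x ^ k * b) := by
    calc z * b * z⁻¹ = (v * w) * ((v * w) * b * (v * w)⁻¹) * (v * w)⁻¹ := by rw [← hvw]; group
      _ = (v * w) * (x ^ k * b) * (v * w)⁻¹ := by rw [e1]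
      _ = (v * w) * x ^ k * (v * w)⁻¹ * ((v * w) * b * (v * w)⁻¹) := by group
      _ = x ^ k * (x ^ k * b) := by rw [e1, e2]
  have e4 := h.inv b hb
  rw [e3] at e4
  have e5 : b * b ∈ zpowers x := by
    have h5 : b * b = (x ^ k)⁻¹ * ((x ^ k)⁻¹ * (x ^ k * (x ^ k * b) * b)) := by group
    rw [h5]
    exact mul_mem (inv_mem ⟨k, rfl⟩) (mul_mem (inv_mem ⟨k, rfl⟩) e4)
  exact hbx (h.mem_of_sq hp hb e5)

/-- the nonabelian case -/
theorem Out.three [Finite G] (h : Out p x z P O) (hpp : p.Prime) (hp : Odd p) (hxo : orderOf x = p)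
    (hnab : ∃ a ∈ P, ∃ b ∈ P, a * b ≠ b * a) (w : Fin 3 → G) (hww : ∀ a, w a * w a = 1)
    (hwx : ∀ a, w a * x * (w a)⁻¹ = x⁻¹) (hwz : ∀ a b, a ≠ b → w a * w b * (w a * w b) = z)
    (hconj : ∀ g ∈ P, g ≠ 1 → ∀ s : G, s * s = 1 → s ≠ 1 → s * g = g * s → ∃ k : ℤ, IsConj g (x ^ k)) :
    H773.Rv.Three (P : Subgroup G) := by
  have hx1 : x ≠ 1 := by
    rintro rfl
    rw [orderOf_one] at hxo
    exact hpp.one_lt.ne hxo
  have hw1 : ∀ a, w a ≠ 1 := by
    intro a ha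
    have h1 := hwx a
    rw [ha, one_mul, inv_one, mul_one] at h1
    apply hx1
    refine eq_one_of_sq hp hxo (mem_zpowers x) ?_
    rw [mul_eq_one_iff_eq_inv]
    exact h1
  have hex : ∀ a, ∃ g ∈ P, g ≠ 1 ∧ w a * g = g * w a := fun a => h.exists_fixed hnab (hww a) (hwx a)
  choose g hgP hg1 hgw using hex
  have hgx : ∀ a, g a ∉ zpowers x := by
    intro a ha
    apply hg1 a
    refine eq_one_of_sq hp hxo ha ?_
    obtain ⟨k, hk⟩ := ha
    have h1 : w a * g a * (w a)⁻¹ = (g a)⁻¹ := by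
      rw [← hk]
      show w a * x ^ k * (w a)⁻¹ = (x ^ k)⁻¹
      rw [← conj_zpow, hwx, inv_zpow]
    rw [hgw, mul_inv_cancel_right] at h1
    rw [mul_eq_one_iff_eq_inv]
    exact h1
  have hnc : ∀ a b, a ≠ b → g a * g b ≠ g b * g a := fun a b hab =>
    h.not_comm hpp hp hxo hnab (hwx a) (hwx b) (hwz a b hab) (hgP a) (hgP b) (hgx a) (hgx b) (hgw a) (hgw b)
  refine ⟨g 0, hgP 0, g 1, hgP 1, g 2, hgP 2, hnc 0 1 (by decide), hnc 1 2 (by decide),
    hnc 0 2 (by decide), ?_⟩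
  have hall : ∀ a, ∃ y ∈ (P : Subgroup G), H773.Rv.InZ (P : Subgroup G) y ∧ IsConj (g a) y := by
    intro a
    obtain ⟨k, hk⟩ := hconj (g a) (hgP a) (hg1 a) (w a) (hww a) (hw1 a) (hgw a)
    refine ⟨x ^ k, zpow_mem h.xP k, ?_, hk⟩
    intro s hs
    exact comm_zpow (h.cent s hs) ⟨k, rfl⟩
  rintro y (rfl | rfl | rfl)
  · exact hall 0
  · exact hall 1
  · exact hall 2

end Cfsg.Agent.H757.RvT
end
end

-- part: H757/ThFinal
section
prune_inst 0x20100400000000000000000000000000000000000000000000000000000000000000000000200000000000000000004000100000420000000a000000000400000000000000000000000000000000000000000000000000000000000000000000000000000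
set_option linter.all false
open scoped Cfsg.Agent.FastGrp

-- part: H757/ThPerm
section
/-!
# The centralizer of a 5-cycle in `S₉` (helper757, for S5207)
-/

set_option autoImplicit false

namespace Cfsg.Agent.H757.ThF

open Equiv Cfsg.Agent.ThType.SpinData

/-- the embedding `S₅ × S₄ → S₉` -/
def em : Perm (Fin 5) × Perm (Fin 4) →* Perm (Fin 9) :=
  (finSumFinEquiv (m := 5) (n := 4)).permCongrHom.toMonoidHom.comp (Perm.sumCongrHom (Fin 5) (Fin 4))

/-- the 5-cycle `0 → 3 → 1 → 4 → 2 → 0` -/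
def s5 : Perm (Fin 5) := swap (0 : Fin 5) 1 * swap (1 : Fin 5) 2 * (swap (0 : Fin 5) 1 * swap (1 : Fin 5) 3) * (swap (0 : Fin 5) 1 * swap (1 : Fin 5) 4)

def sig : alternatingGroup (Fin 9) := cyc 0 * cyc 1 * cyc 2

/-- `(5 6)(7 8)` -/
def al : alternatingGroup (Fin 9) := ⟨swap (5 : Fin 9) 6 * swap (7 : Fin 9) 8, by rw [Perm.mem_alternatingGroup]; decide⟩

/-- `(5 7)(6 8)` -/
def be : alternatingGroup (Fin 9) := ⟨swap (5 : Fin 9) 7 * swap (6 : Fin 9) 8, by rw [Perm.mem_alternatingGroup]; decide⟩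

/-- `(2 3)(1 4)` -/
def ga : alternatingGroup (Fin 9) := ⟨swap (2 : Fin 9) 3 * swap (1 : Fin 9) 4, by rw [Perm.mem_alternatingGroup]; decide⟩

theorem sig_coe : (sig : Perm (Fin 9)) = em (s5, 1) := by decide +kernel

theorem cent_s5 : ∀ t : Perm (Fin 5), t * s5 = s5 * t → ∃ k : Fin 5, t = s5 ^ (k : ℕ) := by (simp only [↓Cfsg.Agent.PermCode.M, Cfsg.Agent.PermCode.P5.R, Cfsg.Agent.PermCode.B]; decide +kernel)

theorem sig_lt : ∀ a : Fin 9, a < 5 → (sig : Perm (Fin 9)) a ≠ a := by decide +kernel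

theorem sig_ge : ∀ a : Fin 9, ¬ a < 5 → (sig : Perm (Fin 9)) a = a := by decide +kernel

theorem em_injective : Function.Injective em := fun _ _ h =>
  Perm.sumCongrHom_injective ((finSumFinEquiv (m := 5) (n := 4)).permCongrHom.injective h)

/-- the centralizer of the 5-cycle -/
theorem cent_sig {t : Perm (Fin 9)} (h : t * sig = sig * t) : ∃ (k : Fin 5) (u : Perm (Fin 4)),
    t = em (s5 ^ (k : ℕ), u) := by
  have hlt : ∀ a : Fin 9, a < 5 → t a < 5 := by
    intro a ha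
    by_contra hta
    have h1 := sig_ge (t a) hta
    have h2 : t ((sig : Perm (Fin 9)) a) = (sig : Perm (Fin 9)) (t a) := by
      rw [← Perm.mul_apply, h, Perm.mul_apply]
    rw [h1] at h2
    exact sig_lt a ha (t.injective h2)
  let T : Perm (Fin 5 ⊕ Fin 4) := (finSumFinEquiv (m := 5) (n := 4)).symm.permCongr t
  have hT : T ∈ (Perm.sumCongrHom (Fin 5) (Fin 4)).range := by
    refine Perm.mem_sumCongrHom_range_of_perm_mapsTo_inl ?_
    rintro _ ⟨a, rfl⟩
    have h1 : t (finSumFinEquiv (Sum.inl a : Fin 5 ⊕ Fin 4)) < 5 := by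
      apply hlt
      rw [finSumFinEquiv_apply_left, Fin.lt_def]
      exact a.2
    refine ⟨⟨(t (finSumFinEquiv (Sum.inl a : Fin 5 ⊕ Fin 4))).1, h1⟩, ?_⟩
    show _ = (finSumFinEquiv (m := 5) (n := 4)).symm (t (finSumFinEquiv (Sum.inl a : Fin 5 ⊕ Fin 4)))
    rw [Equiv.eq_symm_apply, finSumFinEquiv_apply_left]
    rfl
  obtain ⟨⟨t1, u⟩, hu⟩ := hT
  have ht : t = em (t1, u) := by
    show t = (finSumFinEquiv (m := 5) (n := 4)).permCongr (Perm.sumCongrHom (Fin 5) (Fin 4) (t1, u))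
    rw [hu]
    ext a
    simp [T]
  rw [ht, sig_coe, ← map_mul, ← map_mul] at h
  have h2 := congrArg Prod.fst (em_injective h)
  obtain ⟨k, hk⟩ := cent_s5 t1 h2
  exact ⟨k, u, by rw [ht, hk]⟩

set_option maxRecDepth 10000 in
/-- involutions centralising the 5-cycle -/
theorem sq_one : ∀ (k : Fin 5) (u : Perm (Fin 4)), em (s5 ^ (k : ℕ), u) * em (s5 ^ (k : ℕ), u) = 1 →
    (em (s5 ^ (k : ℕ), u)).support.card ≤ 4 := by decide +kernel

private theorem comm_aux (a : Perm (Fin 4)) (h : ∀ u : Perm (Fin 4), a * u * a⁻¹ * u⁻¹ * (a * u * a⁻¹ * u⁻¹) = 1)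
    (s : Perm (Fin 5)) (u : Perm (Fin 4)) : em (1, a) * em (s, u) * (em (1, a))⁻¹ * (em (s, u))⁻¹ *
      (em (1, a) * em (s, u) * (em (1, a))⁻¹ * (em (s, u))⁻¹) = 1 := by
  rw [← map_inv, ← map_inv, ← map_mul, ← map_mul, ← map_mul, ← map_mul, ← map_one em]
  refine congrArg em (Prod.ext ?_ (h u))
  show 1 * s * 1⁻¹ * s⁻¹ * (1 * s * 1⁻¹ * s⁻¹) = 1
  rw [one_mul, inv_one, mul_one, mul_inv_cancel, mul_one]

/-- commutators with `α` have square `1` -/
theorem comm_al : ∀ (k : Fin 5) (u : Perm (Fin 4)),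
    ((al : Perm (Fin 9)) * em (s5 ^ (k : ℕ), u) * (al : Perm (Fin 9))⁻¹ * (em (s5 ^ (k : ℕ), u))⁻¹) *
    ((al : Perm (Fin 9)) * em (s5 ^ (k : ℕ), u) * (al : Perm (Fin 9))⁻¹ * (em (s5 ^ (k : ℕ), u))⁻¹) = 1 := by
  rw [show (al : Perm (Fin 9)) = em (1, swap 0 1 * swap 2 3) by decide +kernel]
  exact fun _ => comm_aux _ (by (set_option synthInstance.maxSize 2000 in open scoped Cfsg.Agent.Lib.PermDec in decide +kernel)) _

theorem comm_be : ∀ (k : Fin 5) (u : Perm (Fin 4)),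
    ((be : Perm (Fin 9)) * em (s5 ^ (k : ℕ), u) * (be : Perm (Fin 9))⁻¹ * (em (s5 ^ (k : ℕ), u))⁻¹) *
    ((be : Perm (Fin 9)) * em (s5 ^ (k : ℕ), u) * (be : Perm (Fin 9))⁻¹ * (em (s5 ^ (k : ℕ), u))⁻¹) = 1 := by
  rw [show (be : Perm (Fin 9)) = em (1, swap 0 2 * swap 1 3) by decide +kernel]
  exact fun _ => comm_aux _ (by (set_option synthInstance.maxSize 2000 in open scoped Cfsg.Agent.Lib.PermDec in decide +kernel)) _

theorem comm_both : ∀ (k : Fin 5) (u : Perm (Fin 4)),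
    (al : Perm (Fin 9)) * em (s5 ^ (k : ℕ), u) = em (s5 ^ (k : ℕ), u) * (al : Perm (Fin 9)) ∧
    (be : Perm (Fin 9)) * em (s5 ^ (k : ℕ), u) = em (s5 ^ (k : ℕ), u) * (be : Perm (Fin 9)) → u * u = 1 := by
  decide +kernel

end Cfsg.Agent.H757.ThF
end

-- part: H757/ThLoc
section
/-!
# Elements of order 5 of `C(z)`, `z` an involution of Thompson type (helper757, for S5207)
-/

set_option autoImplicit false

namespace Cfsg.Agent.H757.ThF

open Equiv Cfsg.Agent.ThType.SpinData Cfsg.Agent.ThType.Squares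

def M0 : Matrix (Fin 8) (Fin 8) (ZMod 2) := _root_.Cfsg.Agent.ThType.Squares.mk ![250, 219, 126, 236, 208, 16, 224, 160]
def A0 : Matrix (Fin 8) (Fin 8) (ZMod 2) := _root_.Cfsg.Agent.ThType.Squares.mk ![197, 131, 152, 119, 160, 128, 208, 192]

theorem X_prod : X 0 * X 1 * X 2 = M0 := by (set_option synthInstance.maxSize 100000 in exact Cfsg.Agent.Lib.Refl.of (by decide +kernel))
theorem M0_A0 : (1 + M0) * A0 = 1 := by decide +kernel
theorem A0_M0 : A0 * (1 + M0) = 1 := by decide +kernel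

variable {G : Type*} [Group G] {z : G} (S : SpinAt G z)
include S

theorem rho_sig : S.ρ sig = M0 := by
  rw [sig, map_mul, map_mul, S.ρ_cyc, S.ρ_cyc, S.ρ_cyc, X_prod]

theorem fix_sig {v : V} (h : (S.ρ sig).mulVec v = v) : v = 0 := by
  rw [rho_sig] at h
  have h1 : (1 + M0).mulVec v = 0 := by
    rw [Matrix.add_mulVec, Matrix.one_mulVec, h, add_self]
  have h2 : (A0 * (1 + M0)).mulVec v = 0 := by
    rw [← Matrix.mulVec_mulVec, h1, Matrix.mulVec_zero]
  rwa [A0_M0, Matrix.one_mulVec] at h2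

theorem solve_sig (w : V) : ∃ v : V, v + (S.ρ sig).mulVec v = w := by
  refine ⟨A0.mulVec w, ?_⟩
  rw [rho_sig]
  have h1 : ((1 + M0) * A0).mulVec w = w := by rw [M0_A0, Matrix.one_mulVec]
  rw [← Matrix.mulVec_mulVec, Matrix.add_mulVec, Matrix.one_mulVec] at h1
  exact h1

theorem solve_inv (w : V) : ∃ v : V, v + (S.ρ sig⁻¹).mulVec v = w := by
  obtain ⟨u, hu⟩ := solve_sig S w
  refine ⟨(S.ρ sig).mulVec u, ?_⟩
  rw [← ρ_mul_mulVec, inv_mul_cancel, ρ_one_mulVec, add_comm]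
  exact hu

/-- lifting: elements of odd order over the same element are `Q`-conjugate -/
theorem conj_of_lift {s : alternatingGroup (Fin 9)} (hs : ∀ w : V, ∃ v : V, v + (S.ρ s).mulVec v = w)
    {x y : G} (hx : x * z = z * x) (hy : y * z = z * y) (hφx : S.φ x = s) (hφy : S.φ y = s)
    (hx5 : x ^ 5 = 1) (hy5 : y ^ 5 = 1) : ∃ q ∈ S.Q, q * x * q⁻¹ = y := by
  have hw : y * x⁻¹ ∈ S.Q := by
    rw [← S.φ_eq_one _ (cz_mul hy (cz_inv hx)), S.φ_mul _ _ hy (cz_inv hx), φ_inv S hx, hφx, hφy,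
      mul_inv_cancel]
  obtain ⟨v, hv⟩ := hs (S.π (y * x⁻¹))
  obtain ⟨q, hq, rfl⟩ := S.π_surj v
  have hxq : x * q * x⁻¹ ∈ S.Q := conj_mem S hx hq
  have hk : q * (x * q * x⁻¹)⁻¹ ∈ S.Q := S.Q.mul_mem hq (S.Q.inv_mem hxq)
  have hπ : S.π (y * x⁻¹) = S.π (q * (x * q * x⁻¹)⁻¹) := by
    rw [S.π_mul _ hq _ (S.Q.inv_mem hxq), π_inv S hxq, S.act x hx q hq, hφx]
    exact hv.symm
  refine ⟨q, hq, ?_⟩
  rcases eq_or S hw hk hπ with h | h
  · calc q * x * q⁻¹ = q * (x * q * x⁻¹)⁻¹ * x := by group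
      _ = y := by rw [← h]; group
  · exfalso
    have h1 : y = (q * x * q⁻¹) * z := by
      calc y = y * x⁻¹ * x := by group
        _ = q * (x * q * x⁻¹)⁻¹ * (z * x) := by rw [h]; group
        _ = (q * x * q⁻¹) * z := by rw [← hx]; group
    have hc : Commute (q * x * q⁻¹) z := cz_mul (cz_mul (cQ S hq) hx) (cz_inv (cQ S hq))
    have h2 : z ^ 5 = 1 := by
      have h3 := hy5
      rw [h1, hc.mul_pow, conj_pow, hx5, mul_one, mul_inv_cancel, one_mul] at h3
      exact h3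
    have h3 : z ^ 5 = z := by
      calc z ^ 5 = (z * z) * (z * z) * z := by simp only [pow_succ, pow_zero, one_mul, mul_assoc]
        _ = z := by rw [S.z_sq]; group
    exact S.z_ne (h3 ▸ h2)

/-- an element of order 5 over the 5-cycle -/
theorem exists_x : ∃ x : G, x * z = z * x ∧ S.φ x = sig ∧ x ^ 5 = 1 := by
  obtain ⟨y, hy, hφ⟩ := S.φ_surj sig
  have hpow : ∀ n : ℕ, (y ^ n) * z = z * y ^ n ∧ S.φ (y ^ n) = sig ^ n := by
    intro n
    induction n with
    | zero => exact ⟨by simp, by rw [pow_zero, pow_zero]; exact φ_one S⟩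
    | succ n ih =>
      refine ⟨((show Commute y z from hy).pow_left _).eq, ?_⟩
      rw [pow_succ, S.φ_mul _ _ ih.1 hy, ih.2, hφ, pow_succ]
  have hsig : sig ^ 5 = 1 := by decide +kernel
  have h5 : y ^ 5 ∈ S.Q := by
    rw [← S.φ_eq_one _ (hpow 5).1, (hpow 5).2, hsig]
  have h20 : (y ^ 5) ^ 4 = 1 := by
    have h1 := S.sq _ h5
    have h2 : (y ^ 5 * y ^ 5) * (y ^ 5 * y ^ 5) = 1 := by
      rw [h1]
      split_ifs
      · group
      · exact S.z_sq
    calc (y ^ 5) ^ 4 = (y ^ 5 * y ^ 5) * (y ^ 5 * y ^ 5) := by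
          simp only [pow_succ, pow_zero, one_mul, mul_assoc]
      _ = 1 := h2
  refine ⟨y ^ 16, (hpow 16).1, ?_, ?_⟩
  · rw [(hpow 16).2, show 16 = 5 * 3 + 1 from rfl, pow_succ, pow_mul, hsig, one_pow, one_mul]
  · rw [← pow_mul, show 16 * 5 = 5 * 4 * 4 from rfl, pow_mul, pow_mul, h20, one_pow]

/-- `C_Q(x) = ⟨z⟩` -/
theorem cent_Q {x q : G} (hx : x * z = z * x) (hφ : S.φ x = sig) (hq : q ∈ S.Q) (h : q * x = x * q) :
    q = 1 ∨ q = z := by
  rw [← S.π_eq_zero q hq]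
  refine fix_sig S ?_
  rw [← hφ, ← S.act x hx q hq, ← h, mul_inv_cancel_right]

/-- lifting of centralizing elements -/
theorem lift_cent {x : G} (hx : x * z = z * x) (hφ : S.φ x = sig) (hx5 : x ^ 5 = 1)
    {g : alternatingGroup (Fin 9)} (hg : g * sig * g⁻¹ = sig) :
    ∃ c : G, c * z = z * c ∧ S.φ c = g ∧ c * x = x * c := by
  obtain ⟨c, hc, rfl⟩ := S.φ_surj g
  obtain ⟨q, hq, h1⟩ := conj_of_lift S (solve_sig S) hx (cz_mul (cz_mul hc hx) (cz_inv hc)) hφ
    (by rw [φ_conj S hc hx, hφ, hg]) hx5 (by rw [conj_pow, hx5, mul_one, mul_inv_cancel])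
  refine ⟨q⁻¹ * c, cz_mul (cz_inv (cQ S hq)) hc, ?_, ?_⟩
  · rw [S.φ_mul _ _ (cz_inv (cQ S hq)) hc, φ_inv S (cQ S hq), φ_Q S hq, inv_one, one_mul]
  · have h2 : q⁻¹ * (c * x * c⁻¹) * q = x := by rw [← h1]; group
    calc q⁻¹ * c * x = q⁻¹ * (c * x * c⁻¹) * q * (q⁻¹ * c) := by group
      _ = x * (q⁻¹ * c) := by rw [h2]

/-- lifting of inverting elements -/
theorem lift_inv {x : G} (hx : x * z = z * x) (hφ : S.φ x = sig) (hx5 : x ^ 5 = 1)
    {g : alternatingGroup (Fin 9)} (hg : g * sig * g⁻¹ = sig⁻¹) :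
    ∃ c : G, c * z = z * c ∧ S.φ c = g ∧ c * x * c⁻¹ = x⁻¹ := by
  obtain ⟨c, hc, rfl⟩ := S.φ_surj g
  obtain ⟨q, hq, h1⟩ := conj_of_lift S (solve_inv S) (cz_inv hx) (cz_mul (cz_mul hc hx) (cz_inv hc))
    (by rw [φ_inv S hx, hφ]) (by rw [φ_conj S hc hx, hφ, hg]) (by rw [inv_pow, hx5, inv_one])
    (by rw [conj_pow, hx5, mul_one, mul_inv_cancel])
  refine ⟨q⁻¹ * c, cz_mul (cz_inv (cQ S hq)) hc, ?_, ?_⟩
  · rw [S.φ_mul _ _ (cz_inv (cQ S hq)) hc, φ_inv S (cQ S hq), φ_Q S hq, inv_one, one_mul]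
  · have h2 : q⁻¹ * (c * x * c⁻¹) * q = x⁻¹ := by rw [← h1]; group
    calc q⁻¹ * c * x * (q⁻¹ * c)⁻¹ = q⁻¹ * (c * x * c⁻¹) * q := by group
      _ = x⁻¹ := h2

/-- squares -/
theorem sq_or {x c : G} (hx : x * z = z * x) (hφ : S.φ x = sig) (hc : c * z = z * c)
    (hcc : S.φ c * S.φ c = 1) (h : c * c * x = x * (c * c)) : c * c = 1 ∨ c * c = z := by
  refine cent_Q S hx hφ ?_ h
  rw [← S.φ_eq_one _ (cz_mul hc hc), S.φ_mul _ _ hc hc, hcc]

/-- the only involution -/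
theorem only_invol (R : Cfsg.Agent.ThType.SqRules.SqRules S) {x t : G} (hx : x * z = z * x) (hφ : S.φ x = sig)
    (htx : t * x = x * t) (htz : t * z = z * t) (htt : t * t = 1) : t = 1 ∨ t = z := by
  have h1 : S.φ t * S.φ t = 1 := by rw [← S.φ_mul _ _ htz htz, htt, φ_one S]
  by_cases h2 : S.φ t = 1
  · exact cent_Q S hx hφ ((S.φ_eq_one t htz).1 h2) htx
  · exfalso
    have h3 : (S.φ t : Perm (Fin 9)) * sig = sig * (S.φ t : Perm (Fin 9)) := by
      have h4 : S.φ t * sig = sig * S.φ t := by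
        rw [← hφ, ← S.φ_mul _ _ htz hx, ← S.φ_mul _ _ hx htz, htx]
      exact (congrArg Subtype.val h4 :)
    obtain ⟨k, u, hku⟩ := cent_sig h3
    have h4 : em (s5 ^ (k : ℕ), u) * em (s5 ^ (k : ℕ), u) = 1 := by
      rw [← hku]
      exact congrArg Subtype.val h1
    have h5 := sq_one k u h4
    rw [← hku] at h5
    have h6 := (S.φ t : Perm (Fin 9)).sum_cycleType
    rcases type_of_invol (S.φ t) h1 h2 with h7 | h7
    · rw [h7] at h6
      have h8 := R.sq2 t htz h1 h6.symm (Or.inl htt)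
      rw [htt] at h8
      exact S.z_ne h8.symm
    · rw [h7] at h6
      have h8 : (8 : ℕ) = (S.φ t : Perm (Fin 9)).support.card := h6
      omega

theorem phi_pow {c : G} (hc : c * z = z * c) (n : ℕ) : S.φ (c ^ n) = S.φ c ^ n := by
  induction n with
  | zero => rw [pow_zero, pow_zero]; exact φ_one S
  | succ n ih => rw [pow_succ, S.φ_mul _ _ ((show Commute c z from hc).pow_left _).eq hc, ih, pow_succ]

/-- an element of odd order of `C(x) ∩ C(z)` such that its commutators with `i` and `j` have odd order is in `⟨x⟩` -/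
theorem mem_of_odd [Finite G] {x i j n : G} (hx : x * z = z * x) (hφ : S.φ x = sig) (hx5 : x ^ 5 = 1)
    (hiz : i * z = z * i) (hjz : j * z = z * j)
    (hi : S.φ i = al) (hj : S.φ j = be) (hnx : n * x = x * n) (hnz : n * z = z * n) (hn : Odd (orderOf n))
    (hni : Odd (orderOf (i * n * i⁻¹ * n⁻¹))) (hnj : Odd (orderOf (j * n * j⁻¹ * n⁻¹))) :
    n ∈ Subgroup.zpowers x := by
  have h3 : (S.φ n : Perm (Fin 9)) * sig = sig * (S.φ n : Perm (Fin 9)) := by
    have h4 : S.φ n * sig = sig * S.φ n := by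
      rw [← hφ, ← S.φ_mul _ _ hnz hx, ← S.φ_mul _ _ hx hnz, hnx]
    exact (congrArg Subtype.val h4 :)
  obtain ⟨k, u, hku⟩ := cent_sig h3
  -- an element of odd order with `φ` of square one
  have key : ∀ c : G, c * z = z * c → Odd (orderOf c) → S.φ c * S.φ c = 1 → S.φ c = 1 := by
    intro c hc hodd h2
    have h4 : S.φ c ^ orderOf c = 1 := by rw [← phi_pow S hc, pow_orderOf_eq_one, φ_one S]
    obtain ⟨m, hm⟩ := hodd
    rw [hm, pow_add, pow_mul, pow_two, h2, one_pow, one_mul, pow_one] at h4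
    exact h4
  have e1 : S.φ (i * n * i⁻¹ * n⁻¹) = al * S.φ n * al⁻¹ * (S.φ n)⁻¹ := by
    rw [S.φ_mul _ _ (cz_mul (cz_mul hiz hnz) (cz_inv hiz)) (cz_inv hnz), φ_conj S hiz hnz, φ_inv S hnz, hi]
  have e2 : S.φ (j * n * j⁻¹ * n⁻¹) = be * S.φ n * be⁻¹ * (S.φ n)⁻¹ := by
    rw [S.φ_mul _ _ (cz_mul (cz_mul hjz hnz) (cz_inv hjz)) (cz_inv hnz), φ_conj S hjz hnz, φ_inv S hnz, hj]
  have e3 := key _ (cz_mul (cz_mul (cz_mul hiz hnz) (cz_inv hiz)) (cz_inv hnz)) hni (by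
    rw [e1]
    apply Subtype.ext
    have := comm_al k u
    rw [← hku] at this
    exact this)
  have e4 := key _ (cz_mul (cz_mul (cz_mul hjz hnz) (cz_inv hjz)) (cz_inv hnz)) hnj (by
    rw [e2]
    apply Subtype.ext
    have := comm_be k u
    rw [← hku] at this
    exact this)
  rw [e1, mul_inv_eq_one, mul_inv_eq_iff_eq_mul] at e3
  rw [e2, mul_inv_eq_one, mul_inv_eq_iff_eq_mul] at e4
  have e5 : u * u = 1 := by
    apply comm_both k u
    rw [← hku]
    exact ⟨congrArg Subtype.val e3, congrArg Subtype.val e4⟩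
  -- `φ n = σ ^ k * (1, u)`, so `φ (n x^{-k})` has square one
  obtain ⟨y, hy⟩ : ∃ y, y = n * (x ^ (k : ℕ))⁻¹ := ⟨_, rfl⟩
  have hxk : (x ^ (k : ℕ)) * z = z * x ^ (k : ℕ) := ((show Commute x z from hx).pow_left _).eq
  have hyz : y * z = z * y := by rw [hy]; exact cz_mul hnz (cz_inv hxk)
  have hyφ : (S.φ y : Perm (Fin 9)) = em (1, u) := by
    rw [hy, S.φ_mul _ _ hnz (cz_inv hxk), φ_inv S hxk, phi_pow S hx, hφ]
    show (S.φ n : Perm (Fin 9)) * ((sig : Perm (Fin 9)) ^ (k : ℕ))⁻¹ = em (1, u)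
    rw [hku, sig_coe, ← map_pow, ← map_inv, ← map_mul]
    congr 1
    ext1
    · show s5 ^ (k : ℕ) * (s5 ^ (k : ℕ))⁻¹ = 1
      exact mul_inv_cancel _
    · show u * ((1 : Perm (Fin 4)) ^ (k : ℕ))⁻¹ = u
      rw [one_pow, inv_one, mul_one]
  have hyodd : Odd (orderOf y) := by
    have hc : Commute n ((x ^ (k : ℕ))⁻¹) := ((show Commute n x from hnx).pow_right _).inv_right
    have h4 : orderOf y ∣ orderOf n * 5 := by
      rw [hy, orderOf_dvd_iff_pow_eq_one, hc.mul_pow, pow_mul, pow_orderOf_eq_one, one_pow, one_mul,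
        mul_comm (orderOf n), pow_mul, inv_pow, ← pow_mul, mul_comm (k : ℕ), pow_mul, hx5, one_pow,
        inv_one, one_pow]
    exact Odd.of_dvd_nat (hn.mul (by decide)) h4
  have hy1 : S.φ y = 1 := by
    refine key y hyz hyodd ?_
    apply Subtype.ext
    show (S.φ y : Perm (Fin 9)) * (S.φ y : Perm (Fin 9)) = 1
    rw [hyφ, ← map_mul]
    show em (1 * 1, u * u) = 1
    rw [e5, mul_one]
    exact map_one em
  have hyx : y * x = x * y := by
    have h4 : (x ^ (k : ℕ))⁻¹ * x = x * (x ^ (k : ℕ))⁻¹ :=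
      (((Commute.refl x).pow_left (k : ℕ)).inv_left).eq
    rw [hy, mul_assoc, h4, ← mul_assoc, hnx, mul_assoc]
  have hy2 := cent_Q S hx hφ ((S.φ_eq_one y hyz).1 hy1) hyx
  have hy3 : y = 1 := by
    rcases hy2 with h4 | h4
    · exact h4
    · exfalso
      rw [h4] at hyodd
      have h5 : orderOf z = 2 := orderOf_eq_prime (by rw [pow_two]; exact S.z_sq) S.z_ne
      rw [h5] at hyodd
      exact absurd hyodd (by decide)
  rw [hy3, eq_comm, mul_inv_eq_one] at hy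
  rw [hy]
  exact ⟨(k : ℕ), by simp⟩

/-- the local data -/
theorem exists_data [Finite G] (R : Cfsg.Agent.ThType.SqRules.SqRules S) :
    ∃ x i j g : G, RvT.Hyp 5 x z i j ∧ g * x * g⁻¹ = x⁻¹ ∧ g * g = z ∧ g * i = i * g ∧ g * j = j * g := by
  obtain ⟨x, hxz, hφ, hx5⟩ := exists_x S
  obtain ⟨i, hiz, hi, hix⟩ := lift_cent S hxz hφ hx5 (g := al) (by decide +kernel)
  obtain ⟨j, hjz, hj, hjx⟩ := lift_cent S hxz hφ hx5 (g := be) (by decide +kernel)
  obtain ⟨g, hgz, hg, hgx⟩ := lift_inv S hxz hφ hx5 (g := ga) (by decide +kernel)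
  have hcomm2 : ∀ c : G, c * x = x * c → c * c * x = x * (c * c) := by
    intro c hc; rw [mul_assoc, hc, ← mul_assoc, hc, mul_assoc]
  have hinv2 : ∀ c : G, c * x * c⁻¹ = x⁻¹ → c * c * x = x * (c * c) := by
    intro c hc
    have h1 : (c * c) * x * (c * c)⁻¹ = x := by
      calc (c * c) * x * (c * c)⁻¹ = c * (c * x * c⁻¹) * c⁻¹ := by group
        _ = c * x⁻¹ * c⁻¹ := by rw [hc]
        _ = (c * x * c⁻¹)⁻¹ := by group
        _ = x := by rw [hc, inv_inv]
    exact mul_inv_eq_iff_eq_mul.1 h1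
  have hzi : z⁻¹ = z := z_inv S
  have hii : i * i = z := by
    refine R.sq2 i hiz ?_ ?_ (sq_or S hxz hφ hiz ?_ (hcomm2 i hix)) <;> rw [hi] <;> decide +kernel
  have hjj : j * j = z := by
    refine R.sq2 j hjz ?_ ?_ (sq_or S hxz hφ hjz ?_ (hcomm2 j hjx)) <;> rw [hj] <;> decide +kernel
  have hgg : g * g = z := by
    refine R.sq2 g hgz ?_ ?_ (sq_or S hxz hφ hgz ?_ (hinv2 g hgx)) <;> rw [hg] <;> decide +kernel
  have hijx : (i * j) * x = x * (i * j) := by rw [mul_assoc, hjx, ← mul_assoc, hix, mul_assoc]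
  have hijij : (i * j) * (i * j) = z := by
    refine R.sq2 (i * j) (cz_mul hiz hjz) ?_ ?_ (sq_or S hxz hφ (cz_mul hiz hjz) ?_ (hcomm2 _ hijx)) <;>
      rw [S.φ_mul _ _ hiz hjz, hi, hj] <;> decide +kernel
  have hinv : ∀ c : G, c * x = x * c → (g * c) * x * (g * c)⁻¹ = x⁻¹ := by
    intro c hc
    calc (g * c) * x * (g * c)⁻¹ = g * (c * x) * c⁻¹ * g⁻¹ := by group
      _ = g * x * g⁻¹ := by rw [hc]; group
      _ = x⁻¹ := hgx
  have hgi2 : (g * i) * (g * i) = 1 := by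
    refine R.sq4 (g * i) (cz_mul hgz hiz) ?_ ?_ (sq_or S hxz hφ (cz_mul hgz hiz) ?_ (hinv2 _ (hinv i hix))) <;>
      rw [S.φ_mul _ _ hgz hiz, hg, hi] <;> decide +kernel
  have hgj2 : (g * j) * (g * j) = 1 := by
    refine R.sq4 (g * j) (cz_mul hgz hjz) ?_ ?_ (sq_or S hxz hφ (cz_mul hgz hjz) ?_ (hinv2 _ (hinv j hjx))) <;>
      rw [S.φ_mul _ _ hgz hjz, hg, hj] <;> decide +kernel
  have hgc : ∀ c : G, c * z = z * c → c * c = z → (g * c) * (g * c) = 1 → g * c = c * g := by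
    intro c hcz hcc h1
    have h2 : g⁻¹ = g * z := by
      rw [inv_eq_iff_mul_eq_one, ← mul_assoc, hgg, S.z_sq]
    have h3 : c⁻¹ = c * z := by
      rw [inv_eq_iff_mul_eq_one, ← mul_assoc, hcc, S.z_sq]
    calc g * c = (g * c)⁻¹ := (inv_eq_of_mul_eq_one_left h1).symm
      _ = c⁻¹ * g⁻¹ := mul_inv_rev _ _
      _ = c * z * (g * z) := by rw [h2, h3]
      _ = c * (z * g) * z := by group
      _ = c * g * (z * z) := by rw [← hgz]; group
      _ = c * g := by rw [S.z_sq, mul_one]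
  refine ⟨x, i, j, g, ?_, hgx, hgg, hgc i hiz hii hgi2, hgc j hjz hjj hgj2⟩
  refine
    { xo := ?_
      zz := S.z_sq
      z1 := S.z_ne
      xz := hxz
      only := fun t h1 h2 h3 => only_invol S R hxz hφ h1 h2 h3
      ix := hix
      jx := hjx
      ii := hii
      jj := hjj
      ij := ?_
      odd := ?_ }
  · have : Fact (Nat.Prime 5) := ⟨by norm_num⟩
    refine orderOf_eq_prime hx5 ?_
    rintro rfl
    rw [φ_one S] at hφ
    have h1 : (1 : alternatingGroup (Fin 9)) ≠ sig := by decide +kernel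
    exact h1 hφ
  · have h2 : i⁻¹ = i * z := by
      rw [inv_eq_iff_mul_eq_one, ← mul_assoc, hii, S.z_sq]
    have h3 : j⁻¹ = j * z := by
      rw [inv_eq_iff_mul_eq_one, ← mul_assoc, hjj, S.z_sq]
    calc i * j = (i * j) * (i * j) * (i * j)⁻¹ := by group
      _ = z * (j⁻¹ * i⁻¹) := by rw [hijij, mul_inv_rev]
      _ = (z * j) * z * i * z := by rw [h2, h3]; group
      _ = j * (z * z) * i * z := by rw [← hjz]; group
      _ = j * i * z := by rw [S.z_sq, mul_one]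
  · intro N hN hNc hNn n hn
    have hodd : ∀ m ∈ N, Odd (orderOf m) := fun m hm =>
      Odd.of_dvd_nat hN (Subgroup.orderOf_dvd_natCard _ hm)
    refine mem_of_odd S hxz hφ hx5 hiz hjz hi hj (hNc n hn).1 (hNc n hn).2 (hodd n hn) ?_ ?_
    · exact hodd _ (mul_mem (hNn i hix hiz n hn) (inv_mem hn))
    · exact hodd _ (mul_mem (hNn j hjx hjz n hn) (inv_mem hn))

end Cfsg.Agent.H757.ThF
end

-- part: H757/RvPol
section
/-!
# The abelian case for `p = 5` is impossible: a polarity without absolute points (helper757, for S5207)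
-/

set_option autoImplicit false

namespace Cfsg.Agent.H757.RvT

open Subgroup Cfsg

universe u

variable {G : Type u} [Group G]

/-- powers with exponent in `ZMod 5` -/
def pw (g : G) (a : ZMod 5) : G := g ^ a.val

theorem pw_natCast {g : G} (hg : g ^ 5 = 1) (n : ℕ) : pw g (n : ZMod 5) = g ^ n := by
  rw [pw, ZMod.val_natCast, ← pow_eq_pow_mod _ hg]

theorem pw_add {g : G} (hg : g ^ 5 = 1) (a b : ZMod 5) : pw g (a + b) = pw g a * pw g b := by
  rw [pw, pw, pw, ← pow_add, ZMod.val_add, ← pow_eq_pow_mod _ hg]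

theorem pw_zero {g : G} : pw g 0 = 1 := by
  rw [pw, ZMod.val_zero, pow_zero]

theorem pw_one {g : G} : pw g 1 = g := by
  show g ^ (1 : ZMod 5).val = g
  rw [show (1 : ZMod 5).val = 1 from rfl, pow_one]

theorem pw_neg {g : G} (hg : g ^ 5 = 1) (a : ZMod 5) : pw g (-a) = (pw g a)⁻¹ := by
  rw [eq_inv_iff_mul_eq_one, ← pw_add hg, neg_add_cancel, pw_zero]

theorem conj_pw (w g : G) (a : ZMod 5) : w * pw g a * w⁻¹ = pw (w * g * w⁻¹) a := by
  rw [pw, pw, conj_pow]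

theorem pw_pow {g : G} (hg : g ^ 5 = 1) (k : ℕ) (a : ZMod 5) : pw (g ^ k) a = pw g (k * a) := by
  have h1 : ((k : ZMod 5) * a) = ((k * a.val : ℕ) : ZMod 5) := by
    rw [Nat.cast_mul, ZMod.natCast_zmod_val]
  rw [h1, pw_natCast hg, pw, pow_mul]

theorem pw_mem {H : Subgroup G} {g : G} (hg : g ∈ H) (a : ZMod 5) : pw g a ∈ H := pow_mem hg _

/-- hypotheses of the abelian case -/
structure Ab (x z i j g : G) (P : Sylow 5 G) (O : Subgroup G) : Prop where
  hyp : Hyp 5 x z i j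
  out : Out 5 x z P O
  ab : ∀ a ∈ P, ∀ b ∈ P, a * b = b * a
  gx : g * x * g⁻¹ = x⁻¹
  gg : g * g = z
  gi : g * i = i * g
  gj : g * j = j * g
  conj : ∀ a ∈ P, a ≠ 1 → ∀ s : G, s * s = 1 → s ≠ 1 → s * a = a * s → ∃ c : G, c * a * c⁻¹ ∈ zpowers x

section

variable {x z i j g : G} {P : Sylow 5 G} {O : Subgroup G}

/-- `O` centralises `P` -/
theorem Ab.centP [Finite G] (h : Ab x z i j g P O) {o u : G} (ho : o ∈ O) (hu : u ∈ P) : o * u * o⁻¹ = u := by
  obtain ⟨c, hc⟩ : ∃ c, c = o * u * o⁻¹ * u⁻¹ := ⟨_, rfl⟩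
  have hcx : c ∈ zpowers x := by
    rw [hc]; exact h.out.commO o ho u (h.out.PO hu)
  have hou : o * u * o⁻¹ = c * u := by rw [hc]; group
  have hco : o * c = c * o := comm_zpow (h.out.centO o ho) hcx
  have hpow : ∀ n : ℕ, o ^ n * u * (o ^ n)⁻¹ = c ^ n * u := by
    intro n
    induction n with
    | zero => simp
    | succ n ih =>
      have h1 : o * c ^ n = c ^ n * o := ((show Commute o c from hco).pow_right n).eq
      calc o ^ (n + 1) * u * (o ^ (n + 1))⁻¹ = o * (o ^ n * u * (o ^ n)⁻¹) * o⁻¹ := by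
            rw [pow_succ']; group
        _ = o * c ^ n * u * o⁻¹ := by rw [ih]; group
        _ = c ^ n * (o * u * o⁻¹) := by rw [h1]; group
        _ = c ^ (n + 1) * u := by rw [hou, pow_succ]; group
  have hn : ((P : Subgroup G).subgroupOf O).Normal := by
    refine ⟨fun n hn k => ?_⟩
    rw [mem_subgroupOf] at hn ⊢
    exact h.out.norm k (h.out.centO k k.2) n hn
  have h1 := Subgroup.pow_index_mem ((P : Subgroup G).subgroupOf O) (⟨o, ho⟩ : O)
  rw [mem_subgroupOf] at h1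
  obtain ⟨m, hm⟩ : ∃ m, m = ((P : Subgroup G).subgroupOf O).index := ⟨_, rfl⟩
  rw [← hm] at h1
  have h2 : o ^ m ∈ P := h1
  have h3 := hpow m
  rw [h.ab _ h2 u hu, mul_inv_cancel_right] at h3
  have h4 : c ^ m = 1 := mul_eq_right.1 h3.symm
  have h5 : c ^ 5 = 1 := by
    obtain ⟨k, rfl⟩ := hcx
    show (x ^ k) ^ 5 = 1
    rw [← zpow_natCast, ← zpow_mul, mul_comm, zpow_mul, zpow_natCast, h.out.exp x h.out.xP, one_zpow]
  have h6 : Nat.Coprime m 5 := by
    have : Fact (Nat.Prime 5) := ⟨by norm_num⟩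
    have h7 : m ∣ (P : Subgroup G).index := by
      rw [hm]
      exact ⟨_, (relIndex_mul_index h.out.PO).symm⟩
    exact ((Nat.Prime.coprime_iff_not_dvd (by norm_num : Nat.Prime 5)).2 fun h8 =>
      P.not_dvd_index (h8.trans h7)).symm
  have h8 : c = 1 := by
    have h9 := Nat.dvd_gcd (orderOf_dvd_of_pow_eq_one h4) (orderOf_dvd_of_pow_eq_one h5)
    rw [h6.gcd_eq_one] at h9
    exact orderOf_eq_one_iff.1 (Nat.dvd_one.1 h9)
  rw [hou, h8, one_mul]

/-- involutions of `C(x)` act on `P` as `z` -/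
theorem Ab.invol [Finite G] (h : Ab x z i j g P O) {s u : G} (hs : s * s = 1) (hs1 : s ≠ 1) (hsx : s * x = x * s)
    (hu : u ∈ P) : s * u * s⁻¹ = z * u * z⁻¹ := by
  obtain ⟨o, ho, e, hex, hez, rfl⟩ := h.out.frat s hsx
  have hxo : orderOf x = 5 := h.hyp.xo
  have he2 : e * e ∈ O := by
    have h1 : e * e = (o * (e * o * e⁻¹))⁻¹ * (o * e * (o * e)) := by group
    rw [h1, hs, mul_one]
    exact inv_mem (mul_mem ho (h.out.normO e hex o ho))
  have he2' : e * e ∈ zpowers x := by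
    refine h.out.inf _ he2 ?_
    rw [mul_assoc, hez, ← mul_assoc, hez, mul_assoc]
  have h5 : (e * e) ^ 5 = 1 := by
    obtain ⟨k, hk⟩ := he2'
    rw [← hk]
    show (x ^ k) ^ 5 = 1
    rw [← zpow_natCast, ← zpow_mul, mul_comm, zpow_mul, zpow_natCast, h.out.exp x h.out.xP, one_zpow]
  have h6 : e ^ 5 * e ^ 5 = 1 := by
    rw [← pow_add, ← h5, ← pow_two, ← pow_mul]
  have h7 : e = e ^ 5 * ((e * e) ^ 2)⁻¹ := by
    rw [← pow_two, ← pow_mul]
    group
  have h8 : (e * e) ^ 2 ∈ zpowers x := pow_mem he2' 2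
  rcases h.hyp.only (e ^ 5) ((show Commute e x from hex).pow_left 5).eq
    ((show Commute e z from hez).pow_left 5).eq h6 with h9 | h9
  · exfalso
    rw [h9, one_mul] at h7
    have h10 : e ∈ O := by
      rw [h7]
      exact inv_mem (pow_mem he2 2)
    have h11 : o * e ∈ O := mul_mem ho h10
    have h12 : orderOf (o * e) ∣ Nat.card O := Subgroup.orderOf_dvd_natCard _ h11
    have h13 : orderOf (o * e) = 2 := by
      have h14 : orderOf (o * e) ∣ 2 := orderOf_dvd_of_pow_eq_one (by rw [pow_two, hs])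
      rcases (Nat.dvd_prime Nat.prime_two).1 h14 with h15 | h15
      · exact absurd (orderOf_eq_one_iff.1 h15) hs1
      · exact h15
    rw [h13] at h12
    exact absurd h.out.oddO (Nat.not_odd_iff_even.2 (even_iff_two_dvd.2 h12))
  · obtain ⟨y, hy⟩ : ∃ y, y = ((e * e) ^ 2)⁻¹ := ⟨_, rfl⟩
    rw [h9, ← hy] at h7
    have hyx : y ∈ zpowers x := by rw [hy]; exact inv_mem h8
    have hyu : y * u * y⁻¹ = u := by
      rw [← comm_zpow (h.out.cent u hu) hyx, mul_inv_cancel_right]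
    calc o * e * u * (o * e)⁻¹ = o * (e * u * e⁻¹) * o⁻¹ := by group
      _ = e * u * e⁻¹ := h.centP ho (h.out.norm e hex u hu)
      _ = z * (y * u * y⁻¹) * z⁻¹ := by rw [h7]; group
      _ = z * u * z⁻¹ := by rw [hyu]

/-- elements of `P` centralised by an involution are conjugate into `⟨x⟩` by an element mapping `P` to `P` -/
theorem Ab.move [Finite G] (h : Ab x z i j g P O) {a s : G} (ha : a ∈ P) (ha1 : a ≠ 1) (hs : s * s = 1)
    (hs1 : s ≠ 1) (hsa : s * a = a * s) :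
    ∃ c : G, c * a * c⁻¹ ∈ zpowers x ∧ (∀ t : G, t * a = a * t → (c * t * c⁻¹) * x = x * (c * t * c⁻¹)) ∧
      ∀ u ∈ P, c * u * c⁻¹ ∈ P := by
  obtain ⟨c, hc⟩ := h.conj a ha ha1 s hs hs1 hsa
  have hcx : ∀ t : G, t * a = a * t → (c * t * c⁻¹) * x = x * (c * t * c⁻¹) := by
    intro t ht
    have h1 : (c * t * c⁻¹) * (c * a * c⁻¹) = (c * a * c⁻¹) * (c * t * c⁻¹) := by
      calc (c * t * c⁻¹) * (c * a * c⁻¹) = c * (t * a) * c⁻¹ := by group
        _ = c * (a * t) * c⁻¹ := by rw [ht]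
        _ = (c * a * c⁻¹) * (c * t * c⁻¹) := by group
    have h2 : x ∈ zpowers (c * a * c⁻¹) := by
      have h3 : zpowers (c * a * c⁻¹) = zpowers x := by
        refine eq_of_le_of_card_ge ((zpowers_le).2 hc) ?_
        rw [Nat.card_zpowers, Nat.card_zpowers, h.hyp.xo]
        have h4 := Subgroup.orderOf_dvd_natCard _ hc
        rw [Nat.card_zpowers, h.hyp.xo] at h4
        rcases (Nat.dvd_prime (by norm_num : Nat.Prime 5)).1 h4 with h5 | h5
        · exfalso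
          rw [orderOf_eq_one_iff] at h5
          apply ha1
          calc a = c⁻¹ * (c * a * c⁻¹) * c := by group
            _ = 1 := by rw [h5]; group
        · exact h5.ge
      rw [h3]
      exact mem_zpowers x
    exact comm_zpow h1 h2
  refine ⟨c, hc, hcx, ?_⟩
  intro u hu
  have h1 : (P : Subgroup G).map (MulAut.conj c).toMonoidHom ≤ P := by
    refine h.out.le (P.2.map _) ?_
    rintro _ ⟨v, hv, rfl⟩
    exact hcx v (h.ab v hv a ha)
  exact h1 ⟨u, hu, rfl⟩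

/-- involutions centralising a nontrivial element of `P` act identically on `P` -/
theorem Ab.same [Finite G] (h : Ab x z i j g P O) {a s t u : G} (ha : a ∈ P) (ha1 : a ≠ 1) (hs : s * s = 1)
    (hs1 : s ≠ 1) (hsa : s * a = a * s) (ht : t * t = 1) (ht1 : t ≠ 1) (hta : t * a = a * t) (hu : u ∈ P) :
    s * u * s⁻¹ = t * u * t⁻¹ := by
  obtain ⟨c, hc, hcx, hcP⟩ := h.move ha ha1 hs hs1 hsa
  have key : ∀ s : G, s * s = 1 → s ≠ 1 → s * a = a * s → s * u * s⁻¹ = c⁻¹ * (z * (c * u * c⁻¹) * z⁻¹) * c := by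
    intro s hs hs1 hsa
    have h1 : (c * s * c⁻¹) * (c * s * c⁻¹) = 1 := by
      calc (c * s * c⁻¹) * (c * s * c⁻¹) = c * (s * s) * c⁻¹ := by group
        _ = 1 := by rw [hs]; group
    have h2 : c * s * c⁻¹ ≠ 1 := by
      intro h3
      apply hs1
      calc s = c⁻¹ * (c * s * c⁻¹) * c := by group
        _ = 1 := by rw [h3]; group
    rw [← h.invol h1 h2 (hcx s hsa) (hcP u hu)]
    group
  rw [key s hs hs1 hsa, key t ht ht1 hta]

/-- `a ⊥ b` -/
def Orth (a b : G) : Prop := ∃ s : G, s * s = 1 ∧ s ≠ 1 ∧ s * a = a * s ∧ s * b * s⁻¹ = b⁻¹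

theorem Orth.conj {a b : G} (h : Orth a b) (c : G) : Orth (c * a * c⁻¹) (c * b * c⁻¹) := by
  obtain ⟨s, hs, hs1, hsa, hsb⟩ := h
  refine ⟨c * s * c⁻¹, ?_, ?_, ?_, ?_⟩
  · calc (c * s * c⁻¹) * (c * s * c⁻¹) = c * (s * s) * c⁻¹ := by group
      _ = 1 := by rw [hs]; group
  · intro h3
    apply hs1
    calc s = c⁻¹ * (c * s * c⁻¹) * c := by group
      _ = 1 := by rw [h3]; group
  · calc (c * s * c⁻¹) * (c * a * c⁻¹) = c * (s * a) * c⁻¹ := by group
      _ = c * (a * s) * c⁻¹ := by rw [hsa]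
      _ = (c * a * c⁻¹) * (c * s * c⁻¹) := by group
  · calc (c * s * c⁻¹) * (c * b * c⁻¹) * (c * s * c⁻¹)⁻¹ = c * (s * b * s⁻¹) * c⁻¹ := by group
      _ = (c * b * c⁻¹)⁻¹ := by rw [hsb]; group

theorem Orth.of_conj {a b c : G} (h : Orth (c * a * c⁻¹) (c * b * c⁻¹)) : Orth a b := by
  have h1 := h.conj c⁻¹
  have e1 : ∀ y : G, c⁻¹ * (c * y * c⁻¹) * c⁻¹⁻¹ = y := fun y => by group
  rwa [e1, e1] at h1

theorem Ab.orth_mul [Finite G] (h : Ab x z i j g P O) {a b c : G} (ha : a ∈ P) (ha1 : a ≠ 1) (hb : b ∈ P)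
    (hc : c ∈ P) (hab : Orth a b) (hac : Orth a c) : Orth a (b * c) := by
  obtain ⟨s, hs, hs1, hsa, hsb⟩ := hab
  obtain ⟨t, ht, ht1, hta, htc⟩ := hac
  refine ⟨s, hs, hs1, hsa, ?_⟩
  rw [← h.same ha ha1 hs hs1 hsa ht ht1 hta hc] at htc
  calc s * (b * c) * s⁻¹ = (s * b * s⁻¹) * (s * c * s⁻¹) := by group
    _ = b⁻¹ * c⁻¹ := by rw [hsb, htc]
    _ = (b * c)⁻¹ := by rw [h.ab b hb c hc, mul_inv_rev]

theorem Ab.eq_one_of_eq_inv (h : Ab x z i j g P O) {a : G} (ha : a ∈ P) (h1 : a = a⁻¹) : a = 1 := by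
  have h2 : a * a = 1 := by
    rw [mul_eq_one_iff_eq_inv]; exact h1
  have h3 := h.out.exp a ha
  have h4 : a ^ 5 = a := by
    calc a ^ 5 = (a * a) * (a * a) * a := by simp only [pow_succ, pow_zero, one_mul, mul_assoc]
      _ = a := by rw [h2]; group
  rw [← h4, h3]

theorem Ab.not_orth (h : Ab x z i j g P O) {a : G} (ha : a ∈ P) (ha1 : a ≠ 1) : ¬ Orth a a := by
  rintro ⟨s, hs, hs1, hsa, hsb⟩
  rw [hsa, mul_inv_cancel_right] at hsb
  exact ha1 (h.eq_one_of_eq_inv ha hsb)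

theorem pw_eq_one {y : G} (hy : y ^ 5 = 1) (hy1 : y ≠ 1) {a : ZMod 5} (h : pw y a = 1) : a = 0 := by
  have h1 : orderOf y = 5 := by
    rcases (Nat.dvd_prime (by norm_num : Nat.Prime 5)).1 (orderOf_dvd_of_pow_eq_one hy) with h2 | h2
    · exact absurd (orderOf_eq_one_iff.1 h2) hy1
    · exact h2
  have h2 : 5 ∣ a.val := by
    have h5 : orderOf y ∣ a.val := orderOf_dvd_of_pow_eq_one h
    rwa [h1] at h5
  have h3 := ZMod.val_lt a
  have h4 : a.val = 0 := by omega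
  exact (ZMod.val_eq_zero a).1 h4

theorem Ab.zi (h : Ab x z i j g P O) : z * i = i * z := by rw [← h.hyp.ii, mul_assoc]
theorem Ab.zj (h : Ab x z i j g P O) : z * j = j * z := by rw [← h.hyp.jj, mul_assoc]
theorem Ab.zg (h : Ab x z i j g P O) : z * g = g * z := by rw [← h.gg, mul_assoc]

theorem Ab.exists_inverted [Finite G] (h : Ab x z i j g P O) : ∃ u ∈ P, u ≠ 1 ∧ z * u * z⁻¹ = u⁻¹ := by
  have h1 : ∃ y ∈ P, y ∉ zpowers x := by
    by_contra hcon
    push Not at hcon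
    have h2 : (P : Subgroup G) ≤ zpowers x := hcon
    have h3 := Nat.le_of_dvd Nat.card_pos (Subgroup.card_dvd_of_le h2)
    rw [Nat.card_zpowers, h.hyp.xo] at h3
    have h4 : Nat.card ((P : Subgroup G)) = 5 ^ 3 := h.out.card
    rw [h4] at h3
    norm_num at h3
  obtain ⟨y, hy, hyx⟩ := h1
  obtain ⟨k, hk⟩ := h.out.inv y hy
  have hk' : x ^ k = z * y * z⁻¹ * y := hk
  have hc : y * x = x * y := h.out.cent y hy
  have hz : z * x ^ k * z⁻¹ = x ^ k := by
    have : Commute z (x ^ k) := (show Commute z x from h.hyp.xz.symm).zpow_right k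
    rw [this.eq, mul_inv_cancel_right]
  have hyk : y * x ^ k = x ^ k * y := ((show Commute y x from hc).zpow_right k).eq
  obtain ⟨c, hcx⟩ : ∃ c, c = x ^ k := ⟨_, rfl⟩
  rw [← hcx] at hk' hz hyk
  have hc5 : c ^ 5 = 1 := h.out.exp c (by rw [hcx]; exact zpow_mem h.out.xP k)
  refine ⟨y * (c * c), mul_mem hy ?_, ?_, ?_⟩
  · rw [hcx]; exact mul_mem (zpow_mem h.out.xP k) (zpow_mem h.out.xP k)
  · intro h1
    apply hyx
    rw [mul_eq_one_iff_eq_inv] at h1
    rw [h1, hcx]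
    exact inv_mem (mul_mem ⟨k, rfl⟩ ⟨k, rfl⟩)
  · have e1 : z * y * z⁻¹ = c * y⁻¹ := by rw [hk']; group
    have e2 : z * (c * c) * z⁻¹ = c * c := by
      calc z * (c * c) * z⁻¹ = (z * c * z⁻¹) * (z * c * z⁻¹) := by group
        _ = c * c := by rw [hz]
    have e3 : y⁻¹ * c = c * y⁻¹ := ((show Commute y c from hyk).inv_left).eq
    calc z * (y * (c * c)) * z⁻¹ = (z * y * z⁻¹) * (z * (c * c) * z⁻¹) := by group
      _ = c * (y⁻¹ * c) * c := by rw [e1, e2]; group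
      _ = (c * c * c) * y⁻¹ := by rw [e3]; simp only [mul_assoc, e3]
      _ = (c⁻¹ * c⁻¹) * y⁻¹ := by
        rw [show c * c * c = c⁻¹ * c⁻¹ from by
          rw [← mul_inv_rev, eq_inv_iff_mul_eq_one, ← hc5]
          simp only [pow_succ, pow_zero, one_mul, mul_assoc]]
      _ = (y * (c * c))⁻¹ := by group

/-- an eigenvector of `i` -/
theorem Ab.exists_eigen [Finite G] (h : Ab x z i j g P O) :
    ∃ v ∈ P, v ≠ 1 ∧ z * v * z⁻¹ = v⁻¹ ∧ i * v * i⁻¹ = v ^ 2 := by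
  obtain ⟨u, hu, hu1, hzu⟩ := h.exists_inverted
  obtain ⟨y, hy⟩ : ∃ y, y = i * u * i⁻¹ := ⟨_, rfl⟩
  have hyP : y ∈ P := by rw [hy]; exact h.out.norm i h.hyp.ix u hu
  have hzi := h.zi
  have hzy : z * y * z⁻¹ = y⁻¹ := by
    have hzi' : i⁻¹ * z⁻¹ = z⁻¹ * i⁻¹ := by rw [← mul_inv_rev, ← mul_inv_rev, hzi]
    calc z * y * z⁻¹ = (z * i) * u * (i⁻¹ * z⁻¹) := by rw [hy]; group
      _ = i * (z * u * z⁻¹) * i⁻¹ := by rw [hzi, hzi']; group
      _ = y⁻¹ := by rw [hzu, hy]; group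
  have hiy : i * y * i⁻¹ = u⁻¹ := by
    rw [hy, ← hzu, ← h.hyp.ii]; group
  have huy : Commute u y := h.ab u hu y hyP
  have hu5 : u ^ 5 = 1 := h.out.exp u hu
  have hy5 : y ^ 5 = 1 := h.out.exp y hyP
  have hu4 : u ^ 4 = u⁻¹ := by rw [eq_inv_iff_mul_eq_one, ← pow_succ, hu5]
  have key : ∀ n : ℕ, i * (y * u ^ n) * i⁻¹ = u⁻¹ * y ^ n := by
    intro n
    calc i * (y * u ^ n) * i⁻¹ = (i * y * i⁻¹) * (i * u ^ n * i⁻¹) := by group
      _ = u⁻¹ * y ^ n := by rw [hiy, ← conj_pow, ← hy]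
  have keyz : ∀ n : ℕ, z * (y * u ^ n) * z⁻¹ = (y * u ^ n)⁻¹ := by
    intro n
    calc z * (y * u ^ n) * z⁻¹ = (z * y * z⁻¹) * (z * u ^ n * z⁻¹) := by group
      _ = y⁻¹ * (u ^ n)⁻¹ := by rw [hzy, ← conj_pow, hzu, inv_pow]
      _ = (y * u ^ n)⁻¹ := by
        rw [← mul_inv_rev, (huy.pow_left n).eq]
  by_cases hv1 : y * u ^ 2 = 1
  · -- `y u³` is an eigenvector for `-2`
    obtain ⟨v, hv⟩ : ∃ v, v = y * u ^ 3 := ⟨_, rfl⟩
    have hvu : v = u := by
      rw [hv, pow_succ, ← mul_assoc, hv1, one_mul]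
    have hiv : i * v * i⁻¹ = v ^ 3 := by
      rw [hv, key 3, (huy.symm.pow_right 3).mul_pow, ← pow_mul]
      have : u ^ (3 * 3) = u⁻¹ := by
        rw [show 3 * 3 = 5 + 4 from rfl, pow_add, hu5, one_mul, hu4]
      rw [this]
      exact ((huy.inv_left).pow_right 3).eq
    have hzj := h.zj
    have hzj' : j⁻¹ * z⁻¹ = z⁻¹ * j⁻¹ := by rw [← mul_inv_rev, ← mul_inv_rev, hzj]
    have hvP : v ∈ P := by rw [hvu]; exact hu
    have hv5 : (j * v * j⁻¹) ^ 5 = 1 := h.out.exp _ (h.out.norm j h.hyp.jx v hvP)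
    refine ⟨j * v * j⁻¹, h.out.norm j h.hyp.jx v hvP, ?_, ?_, ?_⟩
    · intro h1
      apply hu1
      rw [← hvu]
      calc v = j⁻¹ * (j * v * j⁻¹) * j := by group
        _ = 1 := by rw [h1]; group
    · calc z * (j * v * j⁻¹) * z⁻¹ = (z * j) * v * (j⁻¹ * z⁻¹) := by group
        _ = j * (z * v * z⁻¹) * j⁻¹ := by rw [hzj, hzj']; group
        _ = (j * v * j⁻¹)⁻¹ := by rw [hv, keyz 3]; group
    · have e1 : i * (j * v * j⁻¹) * i⁻¹ = (i * j) * v * (i * j)⁻¹ := by group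
      rw [e1, h.hyp.ij]
      have hzv : z * v * z⁻¹ = v⁻¹ := by rw [hv, keyz 3]
      calc j * i * z * v * (j * i * z)⁻¹ = j * (i * (z * v * z⁻¹) * i⁻¹) * j⁻¹ := by group
        _ = j * (i * v * i⁻¹)⁻¹ * j⁻¹ := by rw [hzv]; group
        _ = ((j * v * j⁻¹) ^ 3)⁻¹ := by rw [hiv, conj_pow]; group
        _ = (j * v * j⁻¹) ^ 2 := by
          rw [inv_eq_iff_mul_eq_one, ← pow_add, hv5]
  · refine ⟨y * u ^ 2, mul_mem hyP (pow_mem hu 2), hv1, keyz 2, ?_⟩
    rw [key 2, (huy.symm.pow_right 2).mul_pow, ← pow_mul, hu4]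
    exact ((huy.inv_left).pow_right 2).eq

/-- a basis of `[P, z]` adapted to `i`, `j` -/
structure Bas (x z i j : G) (P : Sylow 5 G) (v m : G) : Prop where
  vP : v ∈ P
  mP : m ∈ P
  v1 : v ≠ 1
  m1 : m ≠ 1
  zv : z * v * z⁻¹ = v⁻¹
  zm : z * m * z⁻¹ = m⁻¹
  iv : i * v * i⁻¹ = v ^ 2
  im : i * m * i⁻¹ = m ^ 3
  jv : j * v * j⁻¹ = m
  jm : j * m * j⁻¹ = v⁻¹

theorem Ab.exists_bas [Finite G] (h : Ab x z i j g P O) : ∃ v m : G, Bas x z i j P v m := by
  obtain ⟨v, hvP, hv1, hzv, hiv⟩ := h.exists_eigen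
  have hzj := h.zj
  have hzj' : j⁻¹ * z⁻¹ = z⁻¹ * j⁻¹ := by rw [← mul_inv_rev, ← mul_inv_rev, hzj]
  have hmP : j * v * j⁻¹ ∈ P := h.out.norm j h.hyp.jx v hvP
  have hm5 : (j * v * j⁻¹) ^ 5 = 1 := h.out.exp _ hmP
  refine ⟨v, j * v * j⁻¹, hvP, hmP, hv1, ?_, hzv, ?_, hiv, ?_, rfl, ?_⟩
  · intro h1
    apply hv1
    calc v = j⁻¹ * (j * v * j⁻¹) * j := by group
      _ = 1 := by rw [h1]; group
  · calc z * (j * v * j⁻¹) * z⁻¹ = (z * j) * v * (j⁻¹ * z⁻¹) := by group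
      _ = j * (z * v * z⁻¹) * j⁻¹ := by rw [hzj, hzj']; group
      _ = (j * v * j⁻¹)⁻¹ := by rw [hzv]; group
  · have e1 : i * (j * v * j⁻¹) * i⁻¹ = (i * j) * v * (i * j)⁻¹ := by group
    rw [e1, h.hyp.ij]
    calc j * i * z * v * (j * i * z)⁻¹ = j * (i * (z * v * z⁻¹) * i⁻¹) * j⁻¹ := by group
      _ = j * (i * v * i⁻¹)⁻¹ * j⁻¹ := by rw [hzv]; group
      _ = ((j * v * j⁻¹) ^ 2)⁻¹ := by rw [hiv, conj_pow]; group
      _ = (j * v * j⁻¹) ^ 3 := by
        rw [inv_eq_iff_mul_eq_one, ← pow_add, hm5]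
  · calc j * (j * v * j⁻¹) * j⁻¹ = (j * j) * v * (j * j)⁻¹ := by group
      _ = v⁻¹ := by rw [h.hyp.jj, hzv]

/-- coordinates on `P` -/
def En (x v m : G) (s : ZMod 5 × ZMod 5 × ZMod 5) : G := pw x s.1 * (pw v s.2.1 * pw m s.2.2)

theorem Bas.en_mem (h : Ab x z i j g P O) {v m : G} (b : Bas x z i j P v m) (s : ZMod 5 × ZMod 5 × ZMod 5) :
    En x v m s ∈ P := mul_mem (pw_mem h.out.xP _) (mul_mem (pw_mem b.vP _) (pw_mem b.mP _))

theorem Bas.en_add (h : Ab x z i j g P O) {v m : G} (b : Bas x z i j P v m) (s t : ZMod 5 × ZMod 5 × ZMod 5) :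
    En x v m (s + t) = En x v m s * En x v m t := by
  have hv5 := h.out.exp v b.vP
  have hm5 := h.out.exp m b.mP
  have hx5 := h.out.exp x h.out.xP
  have c1 : pw v s.2.1 * pw m s.2.2 * pw x t.1 = pw x t.1 * (pw v s.2.1 * pw m s.2.2) :=
    h.ab _ (mul_mem (pw_mem b.vP _) (pw_mem b.mP _)) _ (pw_mem h.out.xP _)
  have c2 : pw m s.2.2 * pw v t.2.1 = pw v t.2.1 * pw m s.2.2 := h.ab _ (pw_mem b.mP _) _ (pw_mem b.vP _)
  show pw x (s.1 + t.1) * (pw v (s.2.1 + t.2.1) * pw m (s.2.2 + t.2.2)) = _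
  rw [pw_add hx5, pw_add hv5, pw_add hm5]
  show _ = pw x s.1 * (pw v s.2.1 * pw m s.2.2) * (pw x t.1 * (pw v t.2.1 * pw m t.2.2))
  calc pw x s.1 * pw x t.1 * (pw v s.2.1 * pw v t.2.1 * (pw m s.2.2 * pw m t.2.2))
      = pw x s.1 * pw x t.1 * (pw v s.2.1 * (pw v t.2.1 * pw m s.2.2) * pw m t.2.2) := by group
    _ = pw x s.1 * (pw x t.1 * (pw v s.2.1 * pw m s.2.2)) * (pw v t.2.1 * pw m t.2.2) := by
        rw [← c2]; group
    _ = _ := by rw [← c1]; group

theorem conj_mul3 (w a b c : G) : w * (a * (b * c)) * w⁻¹ = (w * a * w⁻¹) * ((w * b * w⁻¹) * (w * c * w⁻¹)) := by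
  group

theorem Bas.en_z (h : Ab x z i j g P O) {v m : G} (b : Bas x z i j P v m) (s : ZMod 5 × ZMod 5 × ZMod 5) :
    z * En x v m s * z⁻¹ = En x v m (s.1, -s.2.1, -s.2.2) := by
  have hv5 := h.out.exp v b.vP
  have hm5 := h.out.exp m b.mP
  have hzx : z * x * z⁻¹ = x := by rw [← h.hyp.xz, mul_inv_cancel_right]
  have i1 : ∀ (y : G), y ^ 5 = 1 → ∀ a : ZMod 5, pw y⁻¹ a = pw y (-a) := by
    intro y hy a
    rw [pw_neg hy, pw, pw, inv_pow]
  rw [En, conj_mul3, conj_pw, conj_pw, conj_pw, hzx, b.zv, b.zm, i1 v hv5, i1 m hm5]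
  rfl

theorem Bas.en_inj (h : Ab x z i j g P O) {v m : G} (b : Bas x z i j P v m) {s : ZMod 5 × ZMod 5 × ZMod 5}
    (hs : En x v m s = 1) : s = 0 := by
  have hv5 := h.out.exp v b.vP
  have hm5 := h.out.exp m b.mP
  have hx5 := h.out.exp x h.out.xP
  have hx1 : x ≠ 1 := by
    intro h1
    have h2 := h.hyp.xo
    rw [h1, orderOf_one] at h2
    norm_num at h2
  have h1 := b.en_z h s
  rw [hs, mul_one, mul_inv_cancel] at h1
  have h2 : En x v m (s + (s.1, -s.2.1, -s.2.2)) = 1 := by rw [b.en_add h, hs, ← h1, one_mul]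
  have h3 : s + (s.1, -s.2.1, -s.2.2) = (s.1 + s.1, 0, 0) := by
    ext <;> simp
  rw [h3, En] at h2
  simp only [pw_zero, mul_one] at h2
  have h4 := pw_eq_one hx5 hx1 h2
  have h5 : s.1 = 0 := by
    revert h4
    generalize s.1 = a
    revert a
    decide
  have h6 : pw v s.2.1 * pw m s.2.2 = 1 := by
    rw [En, h5, pw_zero, one_mul] at hs
    exact hs
  have h7 : pw v (2 * s.2.1) * pw m (3 * s.2.2) = 1 := by
    have h8 : i * (pw v s.2.1 * pw m s.2.2) * i⁻¹ = 1 := by rw [h6]; group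
    have h9 : i * (pw v s.2.1 * pw m s.2.2) * i⁻¹ = (i * pw v s.2.1 * i⁻¹) * (i * pw m s.2.2 * i⁻¹) := by group
    rw [h9, conj_pw, conj_pw, b.iv, b.im, pw_pow hv5, pw_pow hm5] at h8
    exact h8
  have h8 : pw v (2 * s.2.1) * pw m (2 * s.2.2) = 1 := by
    rw [two_mul, two_mul, pw_add hv5, pw_add hm5]
    have c2 : pw m s.2.2 * pw v s.2.1 = pw v s.2.1 * pw m s.2.2 := h.ab _ (pw_mem b.mP _) _ (pw_mem b.vP _)
    calc pw v s.2.1 * pw v s.2.1 * (pw m s.2.2 * pw m s.2.2)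
        = pw v s.2.1 * (pw v s.2.1 * pw m s.2.2) * pw m s.2.2 := by group
      _ = pw v s.2.1 * (pw m s.2.2 * pw v s.2.1) * pw m s.2.2 := by rw [c2]
      _ = (pw v s.2.1 * pw m s.2.2) * (pw v s.2.1 * pw m s.2.2) := by group
      _ = 1 := by rw [h6, one_mul]
  have h9 : pw m s.2.2 = 1 := by
    have e1 : pw m (3 * s.2.2) = pw m (2 * s.2.2) := mul_left_cancel (h7.trans h8.symm)
    have e2 : (3 : ZMod 5) * s.2.2 = 2 * s.2.2 + s.2.2 := by ring
    rw [e2, pw_add hm5] at e1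
    exact mul_eq_left.1 e1
  have h10 := pw_eq_one hm5 b.m1 h9
  rw [h9, mul_one] at h6
  have h11 := pw_eq_one hv5 b.v1 h6
  ext1
  · exact h5
  · ext1
    · exact h11
    · exact h10

theorem Bas.en_injective (h : Ab x z i j g P O) {v m : G} (b : Bas x z i j P v m) :
    Function.Injective (En x v m) := by
  intro s t hst
  have h1 : En x v m (s - t) * En x v m t = En x v m t := by
    rw [← b.en_add h, sub_add_cancel, hst]
  exact sub_eq_zero.1 (b.en_inj h (mul_eq_right.1 h1))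

theorem Bas.en_surj [Finite G] (h : Ab x z i j g P O) {v m : G} (b : Bas x z i j P v m) {u : G} (hu : u ∈ P) :
    ∃ s, En x v m s = u := by
  let f : ZMod 5 × ZMod 5 × ZMod 5 → (P : Subgroup G) := fun s => ⟨En x v m s, b.en_mem h s⟩
  have hf : Function.Injective f := fun s t hst => b.en_injective h (congrArg Subtype.val hst)
  have hb : Function.Bijective f := by
    rw [Nat.bijective_iff_injective_and_card]
    refine ⟨hf, ?_⟩
    have h4 : Nat.card ((P : Subgroup G)) = 5 ^ 3 := h.out.card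
    rw [h4, Nat.card_prod, Nat.card_prod, Nat.card_zmod]
    norm_num
  obtain ⟨s, hs⟩ := hb.2 ⟨u, hu⟩
  exact ⟨s, congrArg Subtype.val hs⟩

theorem Bas.en_neg (h : Ab x z i j g P O) {v m : G} (b : Bas x z i j P v m) (s : ZMod 5 × ZMod 5 × ZMod 5) :
    En x v m (-s) = (En x v m s)⁻¹ := by
  rw [eq_inv_iff_mul_eq_one, ← b.en_add h, neg_add_cancel]
  show pw x 0 * (pw v 0 * pw m 0) = 1
  simp [pw_zero]

/-- elements inverted by `z` -/
theorem Bas.inverted [Finite G] (h : Ab x z i j g P O) {v m : G} (b : Bas x z i j P v m) {u : G} (hu : u ∈ P)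
    (hz : z * u * z⁻¹ = u⁻¹) : ∃ s : ZMod 5 × ZMod 5, En x v m (0, s) = u := by
  obtain ⟨s, rfl⟩ := b.en_surj h hu
  rw [b.en_z h, ← b.en_neg h] at hz
  have h1 := congrArg Prod.fst (b.en_injective h hz)
  have h2 : s.1 = 0 := by
    revert h1
    show s.1 = -s.1 → s.1 = 0
    generalize s.1 = a
    revert a
    decide
  refine ⟨s.2, ?_⟩
  rw [← h2]

theorem Ab.gP (h : Ab x z i j g P O) {u : G} (hu : u ∈ P) : g * u * g⁻¹ ∈ P := h.out.norm_inv h.gx u hu

/-- `g` is scalar on `[P, z]` -/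
theorem Bas.g_scalar [Finite G] (h : Ab x z i j g P O) {v m : G} (b : Bas x z i j P v m) :
    g * v * g⁻¹ = v ^ 2 ∨ g * v * g⁻¹ = v ^ 3 := by
  have hv5 := h.out.exp v b.vP
  have hm5 := h.out.exp m b.mP
  have hzg := h.zg
  have hgi := h.gi
  have h1 : z * (g * v * g⁻¹) * z⁻¹ = (g * v * g⁻¹)⁻¹ := by
    have hzg' : g⁻¹ * z⁻¹ = z⁻¹ * g⁻¹ := by rw [← mul_inv_rev, ← mul_inv_rev, hzg]
    calc z * (g * v * g⁻¹) * z⁻¹ = (z * g) * v * (g⁻¹ * z⁻¹) := by group
      _ = g * (z * v * z⁻¹) * g⁻¹ := by rw [hzg, hzg']; group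
      _ = (g * v * g⁻¹)⁻¹ := by rw [b.zv]; group
  obtain ⟨⟨a, c⟩, hac⟩ := b.inverted h (h.gP b.vP) h1
  have hac' : pw v a * pw m c = g * v * g⁻¹ := by
    rw [← hac, En, pw_zero, one_mul]
  have h2 : i * (g * v * g⁻¹) * i⁻¹ = (g * v * g⁻¹) ^ 2 := by
    have hgi' : g⁻¹ * i⁻¹ = i⁻¹ * g⁻¹ := by rw [← mul_inv_rev, ← mul_inv_rev, hgi]
    calc i * (g * v * g⁻¹) * i⁻¹ = (i * g) * v * (g⁻¹ * i⁻¹) := by group
      _ = g * (i * v * i⁻¹) * g⁻¹ := by rw [← hgi, hgi']; group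
      _ = (g * v * g⁻¹) ^ 2 := by rw [b.iv, conj_pow]
  have h3 : pw v (2 * a) * pw m (3 * c) = pw v (2 * a) * pw m (2 * c) := by
    have e1 : i * (pw v a * pw m c) * i⁻¹ = pw v (2 * a) * pw m (3 * c) := by
      have h9 : i * (pw v a * pw m c) * i⁻¹ = (i * pw v a * i⁻¹) * (i * pw m c * i⁻¹) := by group
      rw [h9, conj_pw, conj_pw, b.iv, b.im, pw_pow hv5, pw_pow hm5]
      rfl
    have e2 : (pw v a * pw m c) ^ 2 = pw v (2 * a) * pw m (2 * c) := by
      have c2 : Commute (pw v a) (pw m c) := h.ab _ (pw_mem b.vP _) _ (pw_mem b.mP _)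
      rw [c2.mul_pow, pow_two, pow_two, ← pw_add hv5, ← pw_add hm5, two_mul, two_mul]
    rw [← e1, ← e2, hac', h2]
  have h4 : c = 0 := by
    have e1 : pw m (3 * c) = pw m (2 * c) := mul_left_cancel h3
    have e2 : (3 : ZMod 5) * c = 2 * c + c := by ring
    rw [e2, pw_add hm5] at e1
    exact pw_eq_one hm5 b.m1 (mul_eq_left.1 e1)
  rw [h4, pw_zero, mul_one] at hac'
  have h5 : a * a = -1 := by
    have e1 : g * (g * v * g⁻¹) * g⁻¹ = v⁻¹ := by
      rw [← b.zv, ← h.gg]; group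
    rw [← hac', conj_pw, ← hac'] at e1
    have e2 : pw (pw v a) a = pw v (a * a) := by
      have : pw v a = v ^ a.val := rfl
      rw [this, pw_pow hv5, ZMod.natCast_zmod_val]
    have e3 : pw v (a * a + 1) = 1 := by
      rw [pw_add hv5, ← e2, e1, pw_one, inv_mul_cancel]
    exact eq_neg_of_add_eq_zero_left (pw_eq_one hv5 b.v1 e3)
  have h6 : a = 2 ∨ a = 3 := by
    have h7 : ∀ a : ZMod 5, a * a = -1 → a = 2 ∨ a = 3 := by decide
    exact h7 a h5
  rw [← hac']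
  rcases h6 with h6 | h6
  · left; rw [h6]; rfl
  · right; rw [h6]; rfl

/-- the six involutions -/
def Wq (z i j g : G) : Fin 6 → G
  | 0 => g * i
  | 1 => g * i * z
  | 2 => g * j
  | 3 => g * j * z
  | 4 => g * (i * j)
  | 5 => g * (i * j) * z

/-- their action on `[P, z]` -/
def Mq : Fin 6 → ZMod 5 × ZMod 5 → ZMod 5 × ZMod 5
  | 0, s => (-s.1, s.2)
  | 1, s => (s.1, -s.2)
  | 2, s => (3 * s.2, 2 * s.1)
  | 3, s => (2 * s.2, 3 * s.1)
  | 4, s => (s.2, s.1)
  | 5, s => (-s.2, -s.1)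

theorem sq_aux {a b z : G} (hab : a * b = b * a) (haa : a * a = z) (hbb : b * b = z) (hzz : z * z = 1) :
    a * b * (a * b) = 1 := by
  calc a * b * (a * b) = a * (b * a) * b := by group
    _ = (a * a) * (b * b) := by rw [← hab]; group
    _ = 1 := by rw [haa, hbb, hzz]

theorem sq_aux' {y z : G} (hyz : z * y = y * z) (hyy : y * y = 1) (hzz : z * z = 1) :
    y * z * (y * z) = 1 := by
  calc y * z * (y * z) = y * (z * y) * z := by group
    _ = (y * y) * (z * z) := by rw [hyz]; group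
    _ = 1 := by rw [hyy, hzz, one_mul]

theorem Ab.ijij (h : Ab x z i j g P O) : i * j * (i * j) = z := by
  calc i * j * (i * j) = i * (j * (i * j)) := by group
    _ = i * (j * (j * i * z)) := by rw [h.hyp.ij]
    _ = i * (j * j) * i * z := by group
    _ = z * (i * i) * z := by rw [h.hyp.jj, ← h.zi]; group
    _ = z := by rw [h.hyp.ii, h.hyp.zz, one_mul]

theorem Ab.g_ij (h : Ab x z i j g P O) : g * (i * j) = (i * j) * g := by
  rw [← mul_assoc, h.gi, mul_assoc, h.gj, mul_assoc]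

theorem Ab.z_ij (h : Ab x z i j g P O) : z * (i * j) = (i * j) * z := by
  rw [← mul_assoc, h.zi, mul_assoc, h.zj, mul_assoc]

theorem Ab.wq_sq (h : Ab x z i j g P O) (q : Fin 6) : Wq z i j g q * Wq z i j g q = 1 := by
  have hz : ∀ y : G, z * y = y * z → z * (g * y) = (g * y) * z := by
    intro y hy
    rw [← mul_assoc, h.zg, mul_assoc, hy, mul_assoc]
  have h0 := sq_aux h.gi h.gg h.hyp.ii h.hyp.zz
  have h2 := sq_aux h.gj h.gg h.hyp.jj h.hyp.zz
  have h4 := sq_aux h.g_ij h.gg h.ijij h.hyp.zz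
  fin_cases q
  · exact h0
  · exact sq_aux' (hz _ h.zi) h0 h.hyp.zz
  · exact h2
  · exact sq_aux' (hz _ h.zj) h2 h.hyp.zz
  · exact h4
  · exact sq_aux' (hz _ h.z_ij) h4 h.hyp.zz

theorem Ab.wq_x (h : Ab x z i j g P O) (q : Fin 6) : Wq z i j g q * x * (Wq z i j g q)⁻¹ = x⁻¹ := by
  have h0 : ∀ y : G, y * x = x * y → (g * y) * x * (g * y)⁻¹ = x⁻¹ := by
    intro y hy
    calc (g * y) * x * (g * y)⁻¹ = g * (y * x) * y⁻¹ * g⁻¹ := by group
      _ = g * x * g⁻¹ := by rw [hy]; group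
      _ = x⁻¹ := h.gx
  have h1 : ∀ y : G, y * x = x * y → (g * y * z) * x * (g * y * z)⁻¹ = x⁻¹ := by
    intro y hy
    rw [mul_assoc g y z]
    refine h0 _ ?_
    rw [mul_assoc, ← h.hyp.xz, ← mul_assoc, hy, mul_assoc]
  have hij : (i * j) * x = x * (i * j) := by rw [mul_assoc, h.hyp.jx, ← mul_assoc, h.hyp.ix, mul_assoc]
  fin_cases q
  · exact h0 _ h.hyp.ix
  · exact h1 _ h.hyp.ix
  · exact h0 _ h.hyp.jx
  · exact h1 _ h.hyp.jx
  · exact h0 _ hij
  · exact h1 _ hij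

theorem Ab.x_ne (h : Ab x z i j g P O) : x ≠ 1 := by
  intro h1
  have h2 := h.hyp.xo
  rw [h1, orderOf_one] at h2
  norm_num at h2

theorem Ab.wq_ne (h : Ab x z i j g P O) (q : Fin 6) : Wq z i j g q ≠ 1 := by
  intro h1
  have h2 := h.wq_x q
  rw [h1, one_mul, inv_one, mul_one] at h2
  exact h.x_ne (h.eq_one_of_eq_inv h.out.xP h2)

/-- the action of the six involutions -/
theorem Bas.wq_en (h : Ab x z i j g P O) {v m : G} (b : Bas x z i j P v m) (hg : g * v * g⁻¹ = v ^ 2)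
    (q : Fin 6) (s : ZMod 5 × ZMod 5) :
    Wq z i j g q * En x v m (0, s) * (Wq z i j g q)⁻¹ = En x v m (0, Mq q s) := by
  have hv5 := h.out.exp v b.vP
  have hm5 := h.out.exp m b.mP
  have e0 : ∀ t : ZMod 5 × ZMod 5, En x v m (0, t) = pw v t.1 * pw m t.2 := by
    intro t; rw [En, pw_zero, one_mul]
  have hc : ∀ a c : ZMod 5, pw v a * pw m c = pw m c * pw v a := fun a c =>
    h.ab _ (pw_mem b.vP _) _ (pw_mem b.mP _)
  -- the action of each of the generators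
  have hgm : g * m * g⁻¹ = m ^ 2 := by
    have hgj := h.gj
    have hgj' : j⁻¹ * g⁻¹ = g⁻¹ * j⁻¹ := by rw [← mul_inv_rev, ← mul_inv_rev, hgj]
    calc g * m * g⁻¹ = (g * j) * v * (j⁻¹ * g⁻¹) := by rw [← b.jv]; group
      _ = j * (g * v * g⁻¹) * j⁻¹ := by rw [hgj, hgj']; group
      _ = m ^ 2 := by rw [hg, ← conj_pow, b.jv]
  have i1 : ∀ (y : G), y ^ 5 = 1 → ∀ a : ZMod 5, pw y⁻¹ a = pw y (-a) := by
    intro y hy a
    rw [pw_neg hy, pw, pw, inv_pow]
  have cm2 : ∀ w a b : G, w * (a * b) * w⁻¹ = (w * a * w⁻¹) * (w * b * w⁻¹) := by intros; group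
  have ag : ∀ a c : ZMod 5, g * (pw v a * pw m c) * g⁻¹ = pw v (2 * a) * pw m (2 * c) := by
    intro a c
    rw [cm2, conj_pw, conj_pw, hg, hgm, pw_pow hv5, pw_pow hm5]; rfl
  have ai : ∀ a c : ZMod 5, i * (pw v a * pw m c) * i⁻¹ = pw v (2 * a) * pw m (3 * c) := by
    intro a c
    rw [cm2, conj_pw, conj_pw, b.iv, b.im, pw_pow hv5, pw_pow hm5]; rfl
  have aj : ∀ a c : ZMod 5, j * (pw v a * pw m c) * j⁻¹ = pw v (-c) * pw m a := by
    intro a c
    rw [cm2, conj_pw, conj_pw, b.jv, b.jm, i1 v hv5, hc]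
  have az : ∀ a c : ZMod 5, z * (pw v a * pw m c) * z⁻¹ = pw v (-a) * pw m (-c) := by
    intro a c
    rw [cm2, conj_pw, conj_pw, b.zv, b.zm, i1 v hv5, i1 m hm5]
  have comp : ∀ w y u : G, (w * y) * u * (w * y)⁻¹ = w * (y * u * y⁻¹) * w⁻¹ := by intros; group
  obtain ⟨a, c⟩ := s
  rw [e0, e0]
  have f5 : ∀ a : ZMod 5, 2 * (2 * a) = -a ∧ 2 * (3 * a) = a ∧ 2 * (2 * -a) = a ∧ 2 * (3 * -a) = -a ∧
      2 * -a = 3 * a ∧ 2 * - -a = 2 * a ∧ 3 * (-a) = 2 * a := by decide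
  fin_cases q
  · show g * i * (pw v a * pw m c) * (g * i)⁻¹ = pw v (-a) * pw m c
    rw [comp, ai, ag, (f5 a).1, (f5 c).2.1]
  · show g * i * z * (pw v a * pw m c) * (g * i * z)⁻¹ = pw v a * pw m (-c)
    rw [comp, az, comp, ai, ag, (f5 a).2.2.1, (f5 c).2.2.2.1]
  · show g * j * (pw v a * pw m c) * (g * j)⁻¹ = pw v (3 * c) * pw m (2 * a)
    rw [comp, aj, ag, (f5 c).2.2.2.2.1]
  · show g * j * z * (pw v a * pw m c) * (g * j * z)⁻¹ = pw v (2 * c) * pw m (3 * a)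
    rw [comp, az, comp, aj, ag, (f5 c).2.2.2.2.2.1, (f5 a).2.2.2.2.1]
  · show g * (i * j) * (pw v a * pw m c) * (g * (i * j))⁻¹ = pw v c * pw m a
    rw [comp, comp, aj, ai, ag, (f5 c).2.2.1, (f5 a).2.1]
  · show g * (i * j) * z * (pw v a * pw m c) * (g * (i * j) * z)⁻¹ = pw v (-c) * pw m (-a)
    rw [comp, az, comp, comp, aj, ai, ag, neg_neg, (f5 c).1, (f5 a).2.2.2.1]

theorem mq_fix : ∀ s : ZMod 5 × ZMod 5, ∃ q : Fin 6, Mq q s = s := by decide +kernel

set_option maxRecDepth 100000 in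
theorem mq_orth' : ∀ s t : ZMod 5 × ZMod 5, ∀ q : Fin 6, (s ≠ 0 ∧ t ≠ 0 ∧ Mq q s = s ∧ Mq q t = -t) →
    ∃ q' : Fin 6, Mq q' (s + t) = s + t ∧ Mq q' (s - t) = -(s - t) := by (set_option synthInstance.maxSize 100000 in exact Cfsg.Agent.Lib.Refl.of (by decide +kernel))

theorem mq_orth (s t : ZMod 5 × ZMod 5) (hs : s ≠ 0) (ht : t ≠ 0) (q : Fin 6) (h1 : Mq q s = s)
    (h2 : Mq q t = -t) : ∃ q' : Fin 6, Mq q' (s + t) = s + t ∧ Mq q' (s - t) = -(s - t) :=
  mq_orth' s t q ⟨hs, ht, h1, h2⟩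

/-- moving a nontrivial element of `P` centralised by an involution into `⟨x⟩`; the elements orthogonal to it are
moved into `[P, z]` -/
theorem Ab.move_orth [Finite G] (h : Ab x z i j g P O) {v m : G} (b : Bas x z i j P v m) {a s : G} (ha : a ∈ P)
    (ha1 : a ≠ 1) (hs : s * s = 1) (hs1 : s ≠ 1) (hsa : s * a = a * s) :
    ∃ c : G, c * a * c⁻¹ ∈ zpowers x ∧ (∀ u ∈ P, c * u * c⁻¹ ∈ P) ∧
      ∀ u ∈ P, Orth a u → ∃ t : ZMod 5 × ZMod 5, En x v m (0, t) = c * u * c⁻¹ := by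
  obtain ⟨c, hc, hcx, hcP⟩ := h.move ha ha1 hs hs1 hsa
  refine ⟨c, hc, hcP, ?_⟩
  rintro u hu ⟨t, ht, ht1, hta, htu⟩
  refine b.inverted h (hcP u hu) ?_
  have h1 : (c * t * c⁻¹) * (c * t * c⁻¹) = 1 := by
    calc (c * t * c⁻¹) * (c * t * c⁻¹) = c * (t * t) * c⁻¹ := by group
      _ = 1 := by rw [ht]; group
  have h2 : c * t * c⁻¹ ≠ 1 := by
    intro h3
    apply ht1
    calc t = c⁻¹ * (c * t * c⁻¹) * c := by group
      _ = 1 := by rw [h3]; group
  rw [← h.invol h1 h2 (hcx t hta) (hcP u hu)]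
  calc c * t * c⁻¹ * (c * u * c⁻¹) * (c * t * c⁻¹)⁻¹ = c * (t * u * t⁻¹) * c⁻¹ := by group
    _ = (c * u * c⁻¹)⁻¹ := by rw [htu]; group

theorem Ab.orth_symm [Finite G] (h : Ab x z i j g P O) {v m : G} (b : Bas x z i j P v m)
    (hg : g * v * g⁻¹ = v ^ 2) {a u : G} (ha : a ∈ P) (ha1 : a ≠ 1) (hu : u ∈ P) (hau : Orth a u) :
    Orth u a := by
  obtain ⟨s, hs, hs1, hsa, -⟩ := id hau
  obtain ⟨c, hc, hcP, hcu⟩ := h.move_orth b ha ha1 hs hs1 hsa
  obtain ⟨t, ht⟩ := hcu u hu hau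
  obtain ⟨q, hq⟩ := mq_fix t
  refine Orth.of_conj (c := c) ⟨Wq z i j g q, h.wq_sq q, h.wq_ne q, ?_, ?_⟩
  · rw [← ht]
    have h1 := b.wq_en h hg q t
    rw [hq] at h1
    exact mul_inv_eq_iff_eq_mul.1 h1
  · obtain ⟨k, hk⟩ := hc
    rw [← hk]
    show Wq z i j g q * x ^ k * (Wq z i j g q)⁻¹ = (x ^ k)⁻¹
    rw [← conj_zpow, h.wq_x, inv_zpow]

theorem Ab.orth_three [Finite G] (h : Ab x z i j g P O) {v m : G} (b : Bas x z i j P v m)
    (hg : g * v * g⁻¹ = v ^ 2) {a u w : G} (ha : a ∈ P) (ha1 : a ≠ 1) (hu : u ∈ P) (hu1 : u ≠ 1) (hw : w ∈ P)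
    (hw1 : w ≠ 1) (hau : Orth a u) (haw : Orth a w) (huw : Orth u w) : Orth (u * w) (u * w⁻¹) := by
  obtain ⟨s, hs, hs1, hsa, -⟩ := id hau
  obtain ⟨c, hc, hcP, hcu⟩ := h.move_orth b ha ha1 hs hs1 hsa
  obtain ⟨t, ht⟩ := hcu u hu hau
  obtain ⟨r, hr⟩ := hcu w hw haw
  obtain ⟨q, hq⟩ := mq_fix t
  have h1 := b.wq_en h hg q t
  rw [hq] at h1
  have h2 : Wq z i j g q * En x v m (0, t) = En x v m (0, t) * Wq z i j g q := mul_inv_eq_iff_eq_mul.1 h1
  have h3 := huw.conj c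
  rw [← ht, ← hr] at h3
  obtain ⟨y, hy, hy1, hyt, hyr⟩ := h3
  have htne : En x v m (0, t) ≠ 1 := by
    rw [ht]
    intro h4
    apply hu1
    calc u = c⁻¹ * (c * u * c⁻¹) * c := by group
      _ = 1 := by rw [h4]; group
  have h4 := h.same (b.en_mem h (0, t)) htne (h.wq_sq q) (h.wq_ne q) h2 hy hy1 hyt (b.en_mem h (0, r))
  rw [hyr, b.wq_en h hg, ← b.en_neg h] at h4
  have h5 : Mq q r = -r := congrArg Prod.snd (b.en_injective h h4)
  have en0 : En x v m (0, 0) = 1 := by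
    show pw x 0 * (pw v 0 * pw m 0) = 1
    rw [pw_zero, pw_zero, pw_zero, one_mul, one_mul]
  have ht0 : t ≠ 0 := by
    rintro rfl
    exact htne en0
  have hr0 : r ≠ 0 := by
    rintro rfl
    rw [en0] at hr
    apply hw1
    calc w = c⁻¹ * (c * w * c⁻¹) * c := by group
      _ = 1 := by rw [← hr]; group
  obtain ⟨q', hq1, hq2⟩ := mq_orth t r ht0 hr0 q hq h5
  have e1 : c * (u * w) * c⁻¹ = En x v m (0, t + r) := by
    calc c * (u * w) * c⁻¹ = (c * u * c⁻¹) * (c * w * c⁻¹) := by group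
      _ = En x v m ((0, t) + (0, r)) := by rw [← ht, ← hr, b.en_add h]
      _ = En x v m (0, t + r) := by rw [Prod.mk_add_mk, add_zero]
  have e2 : c * (u * w⁻¹) * c⁻¹ = En x v m (0, t - r) := by
    calc c * (u * w⁻¹) * c⁻¹ = (c * u * c⁻¹) * (c * w * c⁻¹)⁻¹ := by group
      _ = En x v m ((0, t) + -(0, r)) := by rw [← ht, ← hr, b.en_add h, b.en_neg h]
      _ = En x v m (0, t - r) := by rw [← sub_eq_add_neg, Prod.mk_sub_mk, sub_zero]
  refine Orth.of_conj (c := c) ⟨Wq z i j g q', h.wq_sq q', h.wq_ne q', ?_, ?_⟩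
  · rw [e1]
    have h6 := b.wq_en h hg q' (t + r)
    rw [hq1] at h6
    exact mul_inv_eq_iff_eq_mul.1 h6
  · rw [e2, b.wq_en h hg, hq2, ← b.en_neg h]
    congr 1
    ext1
    · exact neg_zero.symm
    · rfl

/-- there is no polarity with these properties -/
theorem pol_contra {R : ZMod 5 × ZMod 5 × ZMod 5 → ZMod 5 × ZMod 5 × ZMod 5 → Prop}
    (radd : ∀ s t r u, s ≠ 0 → t + r = u → R s t → R s r → R s u)
    (rsymm : ∀ s t, s ≠ 0 → R s t → R t s)
    (rthree : ∀ s t r u w, s ≠ 0 → t ≠ 0 → r ≠ 0 → t + r = u → t - r = w → R s t → R s r → R t r → R u w)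
    (rneg : ∀ s t u, s ≠ 0 → -t = u → R s t → R s u)
    (rirr : ∀ s, s ≠ 0 → ¬ R s s) (r1 : R (1, 0, 0) (0, 1, 0)) (r2 : R (1, 0, 0) (0, 0, 1))
    (r3 : R (0, 1, 0) (0, 0, 1)) : False := by
  have n1 : ((1, 0, 0) : ZMod 5 × ZMod 5 × ZMod 5) ≠ 0 := by decide
  have n2 : ((0, 1, 0) : ZMod 5 × ZMod 5 × ZMod 5) ≠ 0 := by decide
  have n3 : ((0, 0, 1) : ZMod 5 × ZMod 5 × ZMod 5) ≠ 0 := by decide
  have n4 : ((0, 1, 2) : ZMod 5 × ZMod 5 × ZMod 5) ≠ 0 := by decide
  have n5 : ((1, -1, 0) : ZMod 5 × ZMod 5 × ZMod 5) ≠ 0 := by decide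
  have n6 : ((0, 1, -1) : ZMod 5 × ZMod 5 × ZMod 5) ≠ 0 := by decide
  have n7 : ((1, 1, 1) : ZMod 5 × ZMod 5 × ZMod 5) ≠ 0 := by decide
  have n8 : ((1, 1, -2) : ZMod 5 × ZMod 5 × ZMod 5) ≠ 0 := by decide
  -- `x ⊥ m²`, `v ⊥ m²`
  have r4 : R (1, 0, 0) (0, 0, 2) := radd _ _ _ _ n1 (by decide) r2 r2
  have r5 : R (0, 1, 0) (0, 0, 2) := radd _ _ _ _ n2 (by decide) r3 r3
  have r6 : R (0, 1, 1) (0, 1, -1) := rthree _ _ _ _ _ n1 n2 n3 (by decide) (by decide) r1 r2 r3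
  have r7 : R (0, 1, 2) (0, 1, -2) := rthree _ _ _ _ _ n1 n2 (by decide) (by decide) (by decide) r1 r4 r5
  have r8 : R (1, 1, 0) (1, -1, 0) :=
    rthree _ _ _ _ _ n3 n1 n2 (by decide) (by decide) (rsymm _ _ n1 r2) (rsymm _ _ n2 r3) r1
  -- (A) `y2 = (1, 1, -2) ⊥ (0, 1, 2)`
  have a1 : R (1, 0, 0) (0, 1, 2) := radd _ _ _ _ n1 (by decide) r1 r4
  have a2 : R (0, 1, 2) (1, 1, -2) := radd _ _ _ _ n4 (by decide) (rsymm _ _ n1 a1) r7
  have a3 : R (1, 1, -2) (0, 1, 2) := rsymm _ _ n4 a2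
  -- (B) `y2 ⊥ (1, -1, 0)`
  have b1 : R (1, -1, 0) (1, 1, 0) := rsymm _ _ (by decide) r8
  have b0 : R (0, 0, 1) (0, -1, 0) := rneg _ _ _ n3 (by decide) (rsymm _ _ n2 r3)
  have b2 : R (0, 0, 1) (1, -1, 0) := radd _ _ _ _ n3 (by decide) (rsymm _ _ n1 r2) b0
  have b3 : R (1, -1, 0) (0, 0, 1) := rsymm _ _ n3 b2
  have b6 : R (1, -1, 0) (0, 0, -1) := rneg _ _ _ n5 (by decide) b3
  have b7 : R (1, -1, 0) (1, 1, -1) := radd _ _ _ _ n5 (by decide) b1 b6
  have b4 : R (1, -1, 0) (1, 1, -2) := radd _ _ _ _ n5 (by decide) b7 b6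
  have b5 : R (1, 1, -2) (1, -1, 0) := rsymm _ _ n5 b4
  -- (C) `y2 ⊥ (1, 1, 1)`
  have c0 : R (1, 0, 0) (0, 0, -1) := rneg _ _ _ n1 (by decide) r2
  have c01 : R (1, 0, 0) (0, 1, -1) := radd _ _ _ _ n1 (by decide) r1 c0
  have c02 : R (0, 1, -1) (0, 1, 1) := rsymm _ _ (by decide) r6
  have c1 : R (0, 1, -1) (1, 1, 1) := radd _ _ _ _ n6 (by decide) (rsymm _ _ n1 c01) c02
  have c2 : R (1, 1, 1) (0, 1, -1) := rsymm _ _ n6 c1
  have c3 : R (1, -1, 0) (1, 1, 1) := radd _ _ _ _ n5 (by decide) b1 b3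
  have c4 : R (1, 1, 1) (1, -1, 0) := rsymm _ _ n5 c3
  have c44 : R (1, 1, 1) (0, 2, -2) := radd _ _ _ _ n7 (by decide) c2 c2
  have c5 : R (1, 1, 1) (1, 1, -2) := radd _ _ _ _ n7 (by decide) c44 c4
  have c6 : R (1, 1, -2) (1, 1, 1) := rsymm _ _ n7 c5
  -- `y2 ⊥ y2`
  have d0 : R (1, 1, -2) (0, 2, 4) := radd _ _ _ _ n8 (by decide) a3 a3
  have d1 : R (1, 1, -2) (0, 3, 1) := radd _ _ _ _ n8 (by decide) d0 a3
  have d2 : R (1, 1, -2) (-1, 1, 0) := rneg _ _ _ n8 (by decide) b5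
  have d3 : R (1, 1, -2) (2, 2, 2) := radd _ _ _ _ n8 (by decide) c6 c6
  have d4 : R (1, 1, -2) (-1, 4, 1) := radd _ _ _ _ n8 (by decide) d1 d2
  have d5 : R (1, 1, -2) (1, 1, -2) := radd _ _ _ _ n8 (by decide) d4 d3
  exact rirr _ n8 d5

/-- the contradiction -/
theorem Ab.false_of [Finite G] (h : Ab x z i j g P O) {v m : G} (b : Bas x z i j P v m)
    (hg : g * v * g⁻¹ = v ^ 2) : False := by
  have hne : ∀ s, s ≠ 0 → En x v m s ≠ 1 := fun s hs h1 => hs (b.en_inj h h1)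
  have hmem := b.en_mem h
  have hx : En x v m (1, 0, 0) = x := by
    show pw x 1 * (pw v 0 * pw m 0) = x
    rw [pw_zero, pw_zero, mul_one, mul_one, pw_one]
  have radd : ∀ s t r u, s ≠ 0 → t + r = u → Orth (En x v m s) (En x v m t) →
      Orth (En x v m s) (En x v m r) → Orth (En x v m s) (En x v m u) := by
    rintro s t r _ hs rfl h1 h2
    rw [b.en_add h]
    exact h.orth_mul (hmem s) (hne s hs) (hmem t) (hmem r) h1 h2
  refine pol_contra (R := fun s t => Orth (En x v m s) (En x v m t)) radd ?_ ?_ ?_ ?_ ?_ ?_ ?_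
  · intro s t hs h1
    exact h.orth_symm b hg (hmem s) (hne s hs) (hmem t) h1
  · rintro s t r _ _ hs ht hr rfl rfl h1 h2 h3
    show Orth (En x v m (t + r)) (En x v m (t - r))
    rw [b.en_add h, sub_eq_add_neg, b.en_add h, b.en_neg h]
    exact h.orth_three b hg (hmem s) (hne s hs) (hmem t) (hne t ht) (hmem r) (hne r hr) h1 h2 h3
  · rintro s t _ hs rfl h1
    have h3 : t + t + t + t = -t := by
      have h4 : ∀ a : ZMod 5, a + a + a + a = -a := by decide
      ext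
      · exact h4 _
      · exact h4 _
      · exact h4 _
    exact radd s (t + t + t) t (-t) hs h3 (radd s (t + t) t _ hs rfl (radd s t t _ hs rfl h1 h1) h1) h1
  · intro s hs
    exact h.not_orth (hmem s) (hne s hs)
  · refine ⟨z, h.hyp.zz, h.hyp.z1, ?_, ?_⟩
    · rw [hx]; exact h.hyp.xz.symm
    · rw [b.en_z h, ← b.en_neg h]; rfl
  · refine ⟨z, h.hyp.zz, h.hyp.z1, ?_, ?_⟩
    · rw [hx]; exact h.hyp.xz.symm
    · rw [b.en_z h, ← b.en_neg h]; rfl
  · refine ⟨Wq z i j g 1, h.wq_sq 1, h.wq_ne 1, ?_, ?_⟩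
    · have h6 := b.wq_en h hg 1 (1, 0)
      exact mul_inv_eq_iff_eq_mul.1 h6
    · rw [b.wq_en h hg 1 (0, 1), ← b.en_neg h]; rfl

/-- in the abelian case there is a contradiction -/
theorem Ab.false [Finite G] (h : Ab x z i j g P O) : False := by
  obtain ⟨v, m, b⟩ := h.exists_bas
  rcases b.g_scalar h with hg | hg
  · exact h.false_of b hg
  · have hzi : z⁻¹ = z := inv_eq_of_mul_eq_one_left h.hyp.zz
    have h' : Ab x z i j g⁻¹ P O :=
      { hyp := h.hyp
        out := h.out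
        ab := h.ab
        gx := by
          have h4 : (g * x * g⁻¹)⁻¹ = x := by rw [h.gx, inv_inv]
          calc g⁻¹ * x * g⁻¹⁻¹ = g⁻¹ * (g * x * g⁻¹)⁻¹ * g := by rw [h4]; group
            _ = x⁻¹ := by group
        gg := by rw [← mul_inv_rev, h.gg, hzi]
        gi := ((show Commute g i from h.gi).inv_left).eq
        gj := ((show Commute g j from h.gj).inv_left).eq
        conj := h.conj }
    refine h'.false_of b ?_
    have hv5 := h.out.exp v b.vP
    have h1 : g * v ^ 2 * g⁻¹ = v := by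
      rw [← conj_pow, hg, ← pow_mul, show 3 * 2 = 5 + 1 from rfl, pow_add, hv5, one_mul, pow_one]
    calc g⁻¹ * v * g⁻¹⁻¹ = g⁻¹ * (g * v ^ 2 * g⁻¹) * g := by rw [h1]; group
      _ = v ^ 2 := by group

end

end Cfsg.Agent.H757.RvT
end

-- part: H757/ThFinal
section
/-!
# The Thompson group at the prime 5 (helper757, for S5207)
-/

set_option autoImplicit false

namespace Cfsg.Agent.H757.ThF

open Subgroup Cfsg Cfsg.Agent.Th Cfsg.Agent.Th.Base Cfsg.Agent.Th.IndexUpper Cfsg.Agent.ThType.SpinData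

universe u

/-- if `p ^ 2` does not divide `|H|` then elements of order `p` are conjugate into `⟨x⟩` -/
theorem conj_of_prime {H : Type u} [Group H] [Finite H] {p : ℕ} (hp : p.Prime) (hH : ¬ p ^ 2 ∣ Nat.card H)
    {x u : H} (hx : orderOf x = p) (hu : u ^ p = 1) : ∃ g : H, g * u * g⁻¹ ∈ zpowers x := by
  have : Fact p.Prime := ⟨hp⟩
  have h1 : IsPGroup p (zpowers x) := IsPGroup.of_card (n := 1) (by rw [Nat.card_zpowers, hx, pow_one])
  have h2 : ¬ p ∣ (zpowers x).index := by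
    rintro ⟨k, hk⟩
    apply hH
    rw [← card_mul_index (zpowers x), Nat.card_zpowers, hx, hk]
    exact ⟨k, by ring⟩
  have h3 : IsPGroup p (zpowers u) := by
    have h4 : Nat.card (zpowers u) ∣ p := by rw [Nat.card_zpowers]; exact orderOf_dvd_of_pow_eq_one hu
    obtain ⟨k, -, hk⟩ := (Nat.dvd_prime_pow hp).1 (by rw [pow_one]; exact h4 : Nat.card (zpowers u) ∣ p ^ 1)
    exact IsPGroup.of_card hk
  obtain ⟨R, hR⟩ := h3.exists_le_sylow
  obtain ⟨g, hg⟩ := MulAction.exists_smul_eq H R (h1.toSylow h2)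
  refine ⟨g, ?_⟩
  have h4 : u ∈ R := hR (mem_zpowers u)
  have h5 : g * u * g⁻¹ ∈ g • R := by
    show g * u * g⁻¹ ∈ ((g • R : Sylow p H) : Subgroup H)
    rw [Sylow.coe_subgroup_smul, Subgroup.mem_pointwise_smul_iff_inv_smul_mem]
    have h6 : (MulAut.conj g)⁻¹ • (g * u * g⁻¹) = u := by
      rw [← map_inv, MulAut.smul_def, MulAut.conj_apply]; group
    rw [h6]
    exact h4
  rw [hg] at h5
  exact (IsPGroup.mem_toSylow _ _).1 h5

theorem sqRules {G : Type*} [Group G] [Finite G] [IsSimpleGroup G] {z : G} (S : SpinAt G z) :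
    Cfsg.Agent.ThType.SqRules.SqRules S := by
  have hF := ThType.FusS.exists_conj_mem S
  exact ThType.SqRulesMain.sqRules S (E := ThType.ElemE.El S 8) (fun _ => ThType.ElemE.mem_El_eight S)
    (fun _ hp hp1 => ThType.NormE.exists_trans S hF hp hp1) (fun _ hx => ThType.NormE.centralizer_El_eight S hx)

/-- the squares of the products of the three involutions -/
theorem pairs {G : Type*} [Group G] {x z i j g : G} (h : RvT.Hyp 5 x z i j) (hgg : g * g = z)
    (hgi : g * i = i * g) (hgj : g * j = j * g) (a b : Fin 3) (hab : a ≠ b) :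
    (![g * i, g * j, g * (i * j)] a * ![g * i, g * j, g * (i * j)] b) *
      (![g * i, g * j, g * (i * j)] a * ![g * i, g * j, g * (i * j)] b) = z := by
  have hzi : z * i = i * z := by rw [← h.ii, mul_assoc]
  have hzj : z * j = j * z := by rw [← h.jj, mul_assoc]
  have hzz := h.zz
  have hji : j * i = i * j * z := by rw [h.ij, mul_assoc, hzz, mul_one]
  have hzij : z * (i * j) = i * j * z := by rw [← mul_assoc, hzi, mul_assoc, hzj, mul_assoc]
  have hgij : g * (i * j) = i * j * g := by rw [← mul_assoc, hgi, mul_assoc, hgj, mul_assoc]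
  have hijij : i * j * (i * j) = z := by
    calc i * j * (i * j) = i * (j * i) * j := by group
      _ = (i * i) * j * (z * j) := by rw [hji]; group
      _ = z * (j * j) * z := by rw [hzj, h.ii]; group
      _ = z := by rw [h.jj, hzz, one_mul]
  -- reduction to the quaternion group
  have key : ∀ c d : G, g * c = c * g → z * c = c * z → z * d = d * z → (c * d) * (c * d) = z →
      (g * c * (g * d)) * (g * c * (g * d)) = z := by
    intro c d hc hzc hzd hcd
    have h1 : g * c * (g * d) = z * (c * d) := by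
      calc g * c * (g * d) = g * (c * g) * d := by group
        _ = (g * g) * c * d := by rw [← hc]; group
        _ = z * (c * d) := by rw [hgg]; group
    have h2 : z * (c * d) = (c * d) * z := by rw [← mul_assoc, hzc, mul_assoc, hzd, mul_assoc]
    rw [h1]
    calc z * (c * d) * (z * (c * d)) = z * ((c * d) * z) * (c * d) := by group
      _ = (z * z) * ((c * d) * (c * d)) := by rw [← h2]; group
      _ = z := by rw [hzz, hcd, one_mul]
  have p1 : (j * i) * (j * i) = z := by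
    rw [hji]
    calc i * j * z * (i * j * z) = (i * j) * (z * (i * j)) * z := by group
      _ = (i * j * (i * j)) * (z * z) := by rw [hzij]; group
      _ = z := by rw [hijij, hzz, mul_one]
  have p2 : (i * (i * j)) * (i * (i * j)) = z := by
    have e : i * (i * j) = z * j := by rw [← mul_assoc, h.ii]
    rw [e]
    calc z * j * (z * j) = z * (j * z) * j := by group
      _ = (z * z) * (j * j) := by rw [← hzj]; group
      _ = z := by rw [hzz, h.jj, one_mul]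
  have p3 : ((i * j) * i) * ((i * j) * i) = z := by
    have e : (i * j) * i = j := by
      calc (i * j) * i = i * (j * i) := by group
        _ = (i * i) * j * z := by rw [hji]; group
        _ = (z * j) * z := by rw [h.ii]
        _ = j * (z * z) := by rw [hzj]; group
        _ = j := by rw [hzz, mul_one]
    rw [e, h.jj]
  have p4 : (j * (i * j)) * (j * (i * j)) = z := by
    have e : j * (i * j) = i := by
      calc j * (i * j) = (j * i) * j := by group
        _ = i * j * (z * j) := by rw [hji]; group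
        _ = i * (j * j) * z := by rw [hzj]; group
        _ = i * (z * z) := by rw [h.jj]; group
        _ = i := by rw [hzz, mul_one]
    rw [e, h.ii]
  have p5 : ((i * j) * j) * ((i * j) * j) = z := by
    have e : (i * j) * j = i * z := by rw [mul_assoc, h.jj]
    rw [e]
    calc i * z * (i * z) = i * (z * i) * z := by group
      _ = (i * i) * (z * z) := by rw [hzi]; group
      _ = z := by rw [hzz, h.ii, mul_one]
  fin_cases a <;> fin_cases b
  · exact absurd rfl hab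
  · exact key i j hgi hzi hzj hijij
  · exact key i (i * j) hgi hzi hzij p2
  · exact key j i hgj hzj hzi p1
  · exact absurd rfl hab
  · exact key j (i * j) hgj hzj hzij p4
  · exact key (i * j) i hgij hzij hzi p3
  · exact key (i * j) j hgij hzij hzj p5
  · exact absurd rfl hab

/-- **the Thompson group has three pairwise noncommuting classes of 5-central subgroups in a Sylow 5-subgroup** -/
theorem target [Fact (Nat.Prime 5)] : H773.Rv.TargetThree 5 := by
  have hs : IsSimpleGroup Cfsg.Spor.Th := Main1700.isTh.1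
  have hf : Finite Cfsg.Spor.Th := Main1700.final.1
  obtain ⟨S⟩ := Sigma.ThRow.exists_spin
  have hcard : Nat.card Cfsg.Spor.Th = 90745943887872000 := Main1700.isTh.2
  have hcz : Nat.card (centralizer ({gTh 1} : Set Cfsg.Spor.Th)) = 92897280 :=
    MonsterX.ThOneClass.card_centralizer MonsterX.ThOneClass.orderOf_a
  obtain ⟨z, hz⟩ : ∃ z, z = gTh 1 := ⟨_, rfl⟩
  rw [← hz] at S hcz
  obtain ⟨x, i, j, g, hyp, hgx, hgg, hgi, hgj⟩ := exists_data S (sqRules S)
  have h5 : ¬ 5 ^ 2 ∣ Nat.card (centralizer ({z} : Set Cfsg.Spor.Th)) := by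
    rw [hcz]; norm_num
  obtain ⟨P, O, out⟩ := RvT.exists_out hyp (by norm_num) (by decide) (by rw [hcard]; norm_num)
    (by rw [hcard]; norm_num) h5
  -- fusion of the elements centralised by an involution
  have hconj : ∀ a : Cfsg.Spor.Th, a ^ 5 = 1 → ∀ s : Cfsg.Spor.Th, s * s = 1 → s ≠ 1 → s * a = a * s →
      ∃ c : Cfsg.Spor.Th, c * a * c⁻¹ ∈ zpowers x := by
    intro a ha s hs1 hs2 hsa
    have h1 : orderOf s = 2 := orderOf_eq_prime (by rw [pow_two]; exact hs1) hs2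
    obtain ⟨c, hc⟩ := isConj_iff.1 (MonsterX.ThOneClass.oneClass s (gTh 1) h1 MonsterX.ThOneClass.orderOf_a)
    rw [← hz] at hc
    have h2 : (c * a * c⁻¹) * z = z * (c * a * c⁻¹) := by
      rw [← hc]
      calc (c * a * c⁻¹) * (c * s * c⁻¹) = c * (a * s) * c⁻¹ := by group
        _ = c * (s * a) * c⁻¹ := by rw [hsa]
        _ = (c * s * c⁻¹) * (c * a * c⁻¹) := by group
    obtain ⟨d, k, hk⟩ := conj_of_prime (H := centralizer ({z} : Set Cfsg.Spor.Th)) (by norm_num : Nat.Prime 5) h5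
      (x := ⟨x, mem_centralizer_singleton_iff.2 hyp.xz⟩)
      (u := ⟨c * a * c⁻¹, mem_centralizer_singleton_iff.2 h2⟩)
      (by rw [← Subgroup.orderOf_coe]; exact hyp.xo)
      (Subtype.ext (by
        show (c * a * c⁻¹) ^ 5 = 1
        rw [conj_pow, ha, mul_one, mul_inv_cancel]))
    refine ⟨d * c, k, ?_⟩
    have h3 : x ^ k = (d : Cfsg.Spor.Th) * (c * a * c⁻¹) * (d : Cfsg.Spor.Th)⁻¹ := congrArg Subtype.val hk
    show x ^ k = d * c * a * (d * c)⁻¹
    rw [h3]; group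
  refine ⟨Cfsg.Spor.Th, inferInstance, hf, P, out.card, out.exp, ?_⟩
  by_cases hab : ∀ a ∈ P, ∀ b ∈ P, a * b = b * a
  · -- the abelian case is impossible
    exfalso
    refine RvT.Ab.false (x := x) (z := z) (i := i) (j := j) (g := g) (P := P) (O := O)
      { hyp := hyp
        out := out
        ab := hab
        gx := hgx
        gg := hgg
        gi := hgi
        gj := hgj
        conj := fun a ha _ s hs1 hs2 hsa => hconj a (out.exp a ha) s hs1 hs2 hsa }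
  · push Not at hab
    have hzi : z * i = i * z := by rw [← hyp.ii, mul_assoc]
    have hzj : z * j = j * z := by rw [← hyp.jj, mul_assoc]
    have hgij : g * (i * j) = (i * j) * g := by rw [← mul_assoc, hgi, mul_assoc, hgj, mul_assoc]
    have hijij : i * j * (i * j) = z := by
      have hji : j * i = i * j * z := by rw [hyp.ij, mul_assoc, hyp.zz, mul_one]
      calc i * j * (i * j) = i * (j * i) * j := by group
        _ = (i * i) * j * (z * j) := by rw [hji]; group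
        _ = z * (j * j) * z := by rw [hzj, hyp.ii]; group
        _ = z := by rw [hyp.jj, hyp.zz, one_mul]
    have hijx : (i * j) * x = x * (i * j) := by rw [mul_assoc, hyp.jx, ← mul_assoc, hyp.ix, mul_assoc]
    have hinv : ∀ c : Cfsg.Spor.Th, c * x = x * c → (g * c) * x * (g * c)⁻¹ = x⁻¹ := by
      intro c hc
      calc (g * c) * x * (g * c)⁻¹ = g * (c * x) * c⁻¹ * g⁻¹ := by group
        _ = g * x * g⁻¹ := by rw [hc]; group
        _ = x⁻¹ := hgx
    refine out.three (by norm_num) (by decide) hyp.xo hab ![g * i, g * j, g * (i * j)] ?_ ?_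
      (pairs hyp hgg hgi hgj) ?_
    · intro a
      fin_cases a
      · exact RvT.sq_aux hgi hgg hyp.ii hyp.zz
      · exact RvT.sq_aux hgj hgg hyp.jj hyp.zz
      · exact RvT.sq_aux hgij hgg hijij hyp.zz
    · intro a
      fin_cases a
      · exact hinv i hyp.ix
      · exact hinv j hyp.jx
      · exact hinv _ hijx
    · intro a ha _ s hs1 hs2 hsa
      obtain ⟨c, k, hk⟩ := hconj a (out.exp a ha) s hs1 hs2 hsa
      exact ⟨k, isConj_iff.2 ⟨c, hk.symm⟩⟩

end Cfsg.Agent.H757.ThF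
end

private theorem dce_1f56645e04a0 : _root_.True := by
  try have : _root_.True := by simp only [_root_.Cfsg.Agent.H757.RvT.En.eq_1]
  try have : _root_.True := by simp only [_root_.Cfsg.Agent.H757.RvT.pw.eq_1]
  try have : _root_.True := by simp only [_root_.Cfsg.Agent.H757.ThF.sig.eq_1]
  exact _root_.True.intro
end
end
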